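import Groth.Agent.Lib.Helper8.AntiAff.NatFn

/-!
# Anti-affine groups and `G`-module structures (helper8)

`k` a field, `G` a quasi-compact `k`-group scheme.  `O(G) = k` iff every `VecGrp.GMod G M` with `M`
finite-dimensional is trivial (`reps_iff`).
-/

set_option autoImplicit false
set_option linter.style.haveILetI false
universe u
open CategoryTheory MonoidalCategory CartesianMonoidalCategory MonObj GrpObj AlgebraicGeometry Limits
  TensorProduct

namespace Groth.Agent.H8.AntiAff

variable {k : Type u} [Field k]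

section Ev

variable {M : Type u} [AddCommGroup M] [Module k M]

/-- evaluate a linear form on the right factor. -/
noncomputable def evL (ℓ : M →ₗ[k] k) (B : Type u) [CommRing B] [Algebra k B] :
    B ⊗[k] M →ₗ[k] B :=
  (TensorProduct.rid k B).toLinearMap ∘ₗ ℓ.lTensor B

theorem evL_tmul (ℓ : M →ₗ[k] k) (B : Type u) [CommRing B] [Algebra k B] (b : B) (v : M) :
    evL ℓ B (b ⊗ₜ[k] v) = ℓ v • b := by
  simp [evL]

theorem evL_Wmap (ℓ : M →ₗ[k] k) {B B' : Type u} [CommRing B] [Algebra k B] [CommRing B']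
    [Algebra k B'] (φ : B →ₐ[k] B') (x : B ⊗[k] M) :
    φ (evL ℓ B x) = evL ℓ B' (VecGrp.Wmap φ x) := by
  induction x using TensorProduct.induction_on with
  | zero => simp
  | tmul b v => rw [VecGrp.Wmap_tmul, evL_tmul, evL_tmul, map_smul]
  | add x y hx hy => simp only [map_add, hx, hy]

theorem eq_zero_of_evL [Module.Finite k M] (B : Type u) [CommRing B] [Algebra k B]
    (x : B ⊗[k] M) (h : ∀ ℓ : M →ₗ[k] k, evL ℓ B x = 0) : x = 0 := by
  classical
  obtain ⟨b, -⟩ : ∃ b : Module.Basis (Fin (Module.finrank k M)) k M, b = Module.finBasis k M :=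
    ⟨_, rfl⟩
  obtain ⟨ℬ, hℬ⟩ : ∃ ℬ : Module.Basis (Fin (Module.finrank k M)) B (B ⊗[k] M),
      ℬ = Algebra.TensorProduct.basis B b := ⟨_, rfl⟩
  refine ℬ.ext_elem fun i => ?_
  have key : ∀ y : B ⊗[k] M, ℬ.repr y i = evL (b.coord i) B y := by
    intro y
    induction y using TensorProduct.induction_on with
    | zero => simp
    | tmul a v =>
      rw [hℬ, Algebra.TensorProduct.basis_repr_tmul, evL_tmul, Module.Basis.coord_apply,
        Finsupp.smul_apply, Finsupp.mapRange_apply, smul_eq_mul, Algebra.smul_def, mul_comm]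
    | add y z hy hz => simp only [map_add, Finsupp.add_apply, hy, hz]
  rw [key, h, map_zero, Finsupp.zero_apply]

end Ev

section Trivial

variable {G : Over (Spec (CommRingCat.of k))} [GrpObj G]
variable {M : Type u} [AddCommGroup M] [Module k M]

/-- the matrix coefficient of a `G`-module as a natural function. -/
noncomputable def natFnOf (m : VecGrp.GMod G M) (ℓ : M →ₗ[k] k) (v : M) : NatFn G where
  c B _ _ g := evL ℓ B (m.ρ B g ((1 : B) ⊗ₜ[k] v))
  nat φ g := by
    rw [evL_Wmap, m.naturality φ g, VecGrp.Wmap_tmul, map_one]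

theorem gmod_trivial (hG : Function.Surjective (str G)) [Module.Finite k M]
    (m : VecGrp.GMod G M) (B : Type u) [CommRing B] [Algebra k B] (g : VecGrp.pt k B ⟶ G) :
    m.ρ B g = 1 := by
  have key : ∀ v : M, m.ρ B g ((1 : B) ⊗ₜ[k] v) = (1 : B) ⊗ₜ[k] v := by
    intro v
    rw [← sub_eq_zero]
    apply eq_zero_of_evL
    intro ℓ
    obtain ⟨r, hr⟩ := (natFnOf m ℓ v).const hG
    have h1 : evL ℓ B (m.ρ B g ((1 : B) ⊗ₜ[k] v)) = algebraMap k B r := hr B g
    have h2 : evL ℓ B (m.ρ B 1 ((1 : B) ⊗ₜ[k] v)) = algebraMap k B r := hr B 1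
    have h3 : m.ρ B 1 = 1 := map_one _
    rw [h3] at h2
    rw [map_sub, sub_eq_zero, h1]
    exact h2.symm
  apply LinearEquiv.ext
  intro x
  show m.ρ B g x = x
  induction x using TensorProduct.induction_on with
  | zero => exact map_zero _
  | tmul b v =>
    have hb : b ⊗ₜ[k] v = b • ((1 : B) ⊗ₜ[k] v) := by
      rw [TensorProduct.smul_tmul', smul_eq_mul, _root_.mul_one]
    rw [hb, map_smul, key v]
  | add x y hx hy => rw [map_add, hx, hy]

end Trivial

section MatRep

variable {n : ℕ}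

/-- `B ⊗ kⁿ ≃ Bⁿ`. -/
noncomputable def eB (n : ℕ) (B : Type u) [CommRing B] [Algebra k B] :
    B ⊗[k] (Fin n → k) ≃ₗ[B] (Fin n → B) :=
  TensorProduct.piScalarRight k B B (Fin n)

theorem eB_Wmap {B B' : Type u} [CommRing B] [Algebra k B] [CommRing B'] [Algebra k B']
    (φ : B →ₐ[k] B') (x : B ⊗[k] (Fin n → k)) :
    eB n B' (VecGrp.Wmap φ x) = φ ∘ (eB n B x) := by
  induction x using TensorProduct.induction_on with
  | zero =>
    rw [map_zero, map_zero, map_zero]
    ext i
    simp
  | tmul b f =>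
    rw [VecGrp.Wmap_tmul]
    ext i
    simp [eB, TensorProduct.piScalarRight_apply, TensorProduct.piScalarRightHom_tmul]
  | add x y hx hy =>
    rw [map_add, map_add, map_add, hx, hy]
    ext i
    simp

variable (G : Over (Spec (CommRingCat.of k))) [GrpObj G]

/-- a multiplicative natural family of matrices on the affine points of `G`. -/
structure MatRep (n : ℕ) where
  /-- the matrix of a point -/
  A : ∀ (B : Type u) [CommRing B] [Algebra k B], (VecGrp.pt k B ⟶ G) → Matrix (Fin n) (Fin n) B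
  /-- multiplicativity -/
  mul : ∀ (B : Type u) [CommRing B] [Algebra k B] (x y : VecGrp.pt k B ⟶ G),
    A B (x * y) = A B x * A B y
  /-- unit -/
  one : ∀ (B : Type u) [CommRing B] [Algebra k B], A B 1 = 1
  /-- naturality -/
  nat : ∀ {B B' : Type u} [CommRing B] [Algebra k B] [CommRing B'] [Algebra k B']
    (φ : B →ₐ[k] B') (g : VecGrp.pt k B ⟶ G), (A B g).map φ = A B' (VecGrp.ptMap φ ≫ g)

variable {G}

/-- the action on `B ⊗ kⁿ` as endomorphisms. -/
noncomputable def MatRep.endHom (a : MatRep G n) (B : Type u) [CommRing B] [Algebra k B] :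
    (VecGrp.pt k B ⟶ G) →* Module.End B (B ⊗[k] (Fin n → k)) where
  toFun g := (eB n B).symm.toLinearMap ∘ₗ Matrix.toLin' (a.A B g) ∘ₗ (eB n B).toLinearMap
  map_one' := by
    rw [a.one, Matrix.toLin'_one]
    apply LinearMap.ext
    intro x
    simp
  map_mul' x y := by
    rw [a.mul, Matrix.toLin'_mul]
    apply LinearMap.ext
    intro z
    simp

/-- the `G`-module structure on `kⁿ` of a matrix representation. -/
noncomputable def MatRep.gmod (a : MatRep G n) : VecGrp.GMod G (Fin n → k) where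
  ρ B _ _ := (LinearMap.GeneralLinearGroup.generalLinearEquiv B
    (B ⊗[k] (Fin n → k))).toMonoidHom.comp (a.endHom B).toHomUnits
  naturality {B B'} _ _ _ _ φ g x := by
    show VecGrp.Wmap φ ((eB n B).symm (Matrix.toLin' (a.A B g) (eB n B x))) =
      (eB n B').symm (Matrix.toLin' (a.A B' (VecGrp.ptMap φ ≫ g)) (eB n B' (VecGrp.Wmap φ x)))
    apply (eB n B').injective
    rw [LinearEquiv.apply_symm_apply, eB_Wmap, LinearEquiv.apply_symm_apply, eB_Wmap,
      ← a.nat φ g, Matrix.toLin'_apply, Matrix.toLin'_apply]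
    ext i
    exact RingHom.map_mulVec φ.toRingHom (a.A B g) (eB n B x) i

theorem MatRep.gmod_apply (a : MatRep G n) (B : Type u) [CommRing B] [Algebra k B]
    (g : VecGrp.pt k B ⟶ G) (x : B ⊗[k] (Fin n → k)) :
    a.gmod.ρ B g x = (eB n B).symm (Matrix.toLin' (a.A B g) (eB n B x)) := rfl

theorem MatRep.A_eq_one (a : MatRep G n) (B : Type u) [CommRing B] [Algebra k B]
    (g : VecGrp.pt k B ⟶ G) (h : a.gmod.ρ B g = 1) : a.A B g = 1 := by
  apply Matrix.toLin'.injective
  rw [Matrix.toLin'_one]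
  apply LinearMap.ext
  intro w
  have h1 : a.gmod.ρ B g ((eB n B).symm w) = (eB n B).symm w := by rw [h]; rfl
  rw [a.gmod_apply, LinearEquiv.apply_symm_apply] at h1
  exact (eB n B).symm.injective h1

/-- the matrix representation of a homomorphism to `GL_n`. -/
noncomputable def matRepOf (ρ : G ⟶ FrB.GLn n (Spec (CommRingCat.of k))) [IsMonHom ρ] :
    MatRep G n where
  A B _ _ g := (Tors.glFn n (g ≫ ρ)).map (Scheme.ΓSpecIso (CommRingCat.of B)).hom.hom
  mul B _ _ x y := by
    rw [MonObj.mul_comp x y ρ, Tors.glFn_mul, Matrix.map_mul]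
  one B _ _ := by
    rw [MonObj.one_comp ρ, glFn_one', Matrix.map_one _ (map_zero _) (map_one _)]
  nat {B B'} _ _ _ _ φ g := by
    rw [Category.assoc, Tors.glFn_comp]
    ext i l
    simp only [Matrix.map_apply]
    exact (congrArg (fun f => f.hom (Tors.glFn n (g ≫ ρ) i l))
      (Scheme.ΓSpecIso_naturality (CommRingCat.ofHom φ.toRingHom))).symm

theorem rho_eq_one_of_gmod (ρ : G ⟶ FrB.GLn n (Spec (CommRingCat.of k))) [IsMonHom ρ]
    (H : ∀ (B : Type u) [CommRing B] [Algebra k B] (g : VecGrp.pt k B ⟶ G),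
      (matRepOf ρ).gmod.ρ B g = 1) : ρ = 1 := by
  apply Over.OverMorphism.ext
  refine Scheme.Cover.hom_ext G.left.affineOpenCover.openCover _ _ fun i => ?_
  show G.left.affineOpenCover.f i ≫ _ = G.left.affineOpenCover.f i ≫ _
  obtain ⟨j, hj⟩ : ∃ j, j = G.left.affineOpenCover.f i := ⟨_, rfl⟩
  rw [← hj]
  letI := algOf G j
  have h1 := (matRepOf ρ).A_eq_one _ (ptOf G j) (H _ (ptOf G j))
  have hinj : Function.Injective
      (Scheme.ΓSpecIso (CommRingCat.of (G.left.affineOpenCover.X i))).hom.hom :=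
    (ConcreteCategory.bijective_of_isIso (Scheme.ΓSpecIso _).hom).injective
  have h2 : Tors.glFn n (ptOf G j ≫ ρ) = 1 := by
    apply Matrix.map_injective hinj
    show (Tors.glFn n (ptOf G j ≫ ρ)).map _ = (1 : Matrix _ _ _).map _
    rw [Matrix.map_one _ (map_zero _) (map_one _)]
    exact h1
  have h3 : ptOf G j ≫ ρ = ptOf G j ≫ 1 := by
    apply Tors.glFn_injective
    rw [h2, MonObj.comp_one, glFn_one']
  exact congrArg (fun f => f.left) h3

end MatRep

theorem reps_iff (k : Type u) [Field k] (G : Over (Spec (CommRingCat.of k))) [GrpObj G]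
    [QuasiCompact G.hom] :
    Function.Bijective ((Scheme.ΓSpecIso (CommRingCat.of k)).inv ≫ G.hom.appTop).hom ↔
      ∀ (M : Type u) [AddCommGroup M] [Module k M] [Module.Finite k M] (m : VecGrp.GMod G M)
        (B : Type u) [CommRing B] [Algebra k B] (g : VecGrp.pt k B ⟶ G), m.ρ B g = 1 := by
  constructor
  · intro hG M _ _ _ m B _ _ g
    exact gmod_trivial hG.2 m B g
  · intro H
    rw [main k G]
    intro n ρ hρ
    haveI := hρ
    exact rho_eq_one_of_gmod ρ (fun B _ _ g => H (Fin n → k) (matRepOf ρ).gmod B g)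

end Groth.Agent.H8.AntiAff
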