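import Groth.Agent.Lib.Helper8.AntiAff.Main
import Groth.Agent.Lib.Helper8.ActDesc.Main
import Groth.Prelude.Def_AlgGrp

/-!
# Anti-affine groups act trivially on varieties with a rational fixed point (helper8)

`G` a quasi-compact group scheme over a field `k` with `O(G) = k`, acting on a separated,
geometrically integral `k`-scheme `X` locally of finite type, with a `k`-rational fixed point `x`.
Then the action is trivial.  Proof: `G ⊗ Z → Z` induces a bijection on global functions for every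
qc separated `Z` (Künneth), so every `G ⊗ Z → X` with image in an affine open factors through `snd`;
apply this to the infinitesimal neighbourhoods `Z = Spec O(U)/m_x^{n+1}`, deduce `act = snd` on
`G ⊗ U` by Krull's intersection theorem, and on `G ⊗ X` by schematic density.
-/

set_option autoImplicit false
set_option linter.style.haveILetI false
universe u
open CategoryTheory MonoidalCategory CartesianMonoidalCategory MonObj GrpObj AlgebraicGeometry Limits
  TensorProduct

namespace Groth.Agent.H8.AntiAff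

variable {k : Type u} [Field k]

section Squares

variable {S : Scheme.{u}}

/-- copied from helper9's `SIM.isPullback_whiskerRight_left`. -/
theorem isPullback_whiskerRight_left {A B : Over S} (g : A ⟶ B) (C : Over S) :
    IsPullback (fst A C).left (g ▷ C).left g.left (fst B C).left := by
  refine (IsPullback.of_right (h₁₂ := (snd B C).left) (v₁₃ := C.hom) (h₂₂ := B.hom) ?_ ?_ ?_).flip
  · have e1 : (g ▷ C).left ≫ (snd B C).left = (snd A C).left := Over.whiskerRight_left_snd g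
    have e2 : g.left ≫ B.hom = A.hom := Over.w g
    rw [e1, e2]
    exact (IsPullback.of_hasPullback A.hom C.hom).flip
  · exact Over.whiskerRight_left_fst g
  · exact (IsPullback.of_hasPullback B.hom C.hom).flip

end Squares

section Span

variable (X Y : Over (Spec (CommRingCat.of k))) [QuasiCompact X.hom] [IsSeparated X.hom]
  [QuasiCompact Y.hom] [IsSeparated Y.hom]

theorem span_left {κ : Type*} (𝒷 : Module.Basis κ k Γ(X.left, ⊤)) (F : Γ((X ⊗ Y).left, ⊤)) :
    ∃ c : κ →₀ Γ(Y.left, ⊤),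
      F = ∑ i ∈ c.support, pb (fst X Y) (𝒷 i) * pb (snd X Y) (c i) := by
  obtain ⟨e, he⟩ := kunneth X Y
  obtain ⟨c, hc⟩ := TensorProduct.eq_repr_basis_left 𝒷 (e.symm F)
  refine ⟨c, ?_⟩
  have h := congrArg e hc
  rw [RingEquiv.apply_symm_apply] at h
  rw [← h, Finsupp.sum, map_sum]
  exact Finset.sum_congr rfl fun i _ => he _ _

end Span

section General

variable (G : Over (Spec (CommRingCat.of k))) [GrpObj G]

/-- the unit section of `snd : G ⊗ Z ⟶ Z`. -/
noncomputable def sec (Z : Over (Spec (CommRingCat.of k))) : Z ⟶ G ⊗ Z :=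
  lift (toUnit Z ≫ η[G]) (𝟙 Z)

theorem sec_snd (Z : Over (Spec (CommRingCat.of k))) : sec G Z ≫ snd G Z = 𝟙 Z := lift_snd _ _

theorem sec_whisker_act {X Z : Over (Spec (CommRingCat.of k))} (a : AlgGrp.Action G X)
    (j : Z ⟶ X) : sec G Z ≫ (G ◁ j) ≫ a.act = j := by
  have h1 : sec G Z ≫ (G ◁ j) = lift (toUnit Z) j ≫ (η[G] ▷ X) := by
    unfold sec
    rw [lift_whiskerLeft, lift_whiskerRight, Category.id_comp]
  rw [← Category.assoc, h1, Category.assoc, a.one_act, leftUnitor_hom, lift_snd]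

variable [QuasiCompact G.hom] [IsSeparated G.hom]

theorem pb_snd_surjective (hG : Function.Surjective (str G))
    (Z : Over (Spec (CommRingCat.of k))) [QuasiCompact Z.hom] [IsSeparated Z.hom] :
    Function.Surjective (pb (snd G Z)) := by
  obtain ⟨e, he⟩ := kunneth G Z
  intro F
  obtain ⟨t, rfl⟩ := e.surjective F
  induction t using TensorProduct.induction_on with
  | zero => exact ⟨0, by rw [map_zero, map_zero]⟩
  | tmul a b =>
    obtain ⟨r, rfl⟩ := hG a
    refine ⟨r • b, ?_⟩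
    rw [he, ← algebraMap_eq, AlgHom.commutes, ← Algebra.smul_def, map_smul]
  | add x y hx hy =>
    obtain ⟨a, ha⟩ := hx
    obtain ⟨b, hb⟩ := hy
    exact ⟨a + b, by rw [map_add, map_add, ha, hb]⟩

theorem pb_snd_sec (hG : Function.Surjective (str G))
    (Z : Over (Spec (CommRingCat.of k))) [QuasiCompact Z.hom] [IsSeparated Z.hom]
    (F : Γ((G ⊗ Z).left, ⊤)) : pb (snd G Z) (pb (sec G Z) F) = F := by
  obtain ⟨b, rfl⟩ := pb_snd_surjective G hG Z F
  rw [← pb_comp (sec G Z) (snd G Z), sec_snd, pb_id]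

/-- a morphism `G ⊗ Z ⟶ X` with image in an affine open factors through `snd`. -/
theorem eq_snd_sec_comp (hG : Function.Surjective (str G))
    (Z : Over (Spec (CommRingCat.of k))) [QuasiCompact Z.hom] [IsSeparated Z.hom]
    {X : Over (Spec (CommRingCat.of k))} (ψ : G ⊗ Z ⟶ X) (U : X.left.Opens) (hU : IsAffineOpen U)
    (hψ : ∀ p : ↥(G ⊗ Z).left, ψ.left p ∈ U) : ψ = snd G Z ≫ sec G Z ≫ ψ := by
  apply Over.OverMorphism.ext
  have : IsAffine (U : Scheme.{u}) := hU
  have hr : Set.range ψ.left ⊆ Set.range U.ι := by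
    rw [Scheme.Opens.range_ι]; rintro _ ⟨p, rfl⟩; exact hψ p
  obtain ⟨ψU, hψU⟩ : ∃ ψU : (G ⊗ Z).left ⟶ (U : Scheme.{u}), ψU ≫ U.ι = ψ.left :=
    ⟨IsOpenImmersion.lift U.ι ψ.left hr, IsOpenImmersion.lift_fac _ _ _⟩
  have key : ψU = (snd G Z).left ≫ (sec G Z).left ≫ ψU := by
    apply ext_of_isAffine
    rw [Scheme.Hom.comp_appTop, Scheme.Hom.comp_appTop]
    ext a
    exact (pb_snd_sec G hG Z (ψU.appTop.hom a)).symm
  calc ψ.left = ψU ≫ U.ι := hψU.symm
    _ = ((snd G Z).left ≫ (sec G Z).left ≫ ψU) ≫ U.ι := by rw [← key]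
    _ = (snd G Z).left ≫ (sec G Z).left ≫ ψ.left := by
        rw [Category.assoc, Category.assoc, hψU]
    _ = (snd G Z ≫ sec G Z ≫ ψ).left := by rw [Over.comp_left, Over.comp_left]

end General

/-- two morphisms from an affine scheme to a separated scheme agree if they agree on a jointly
schematically dense family. -/
theorem eq_of_jointly_dense {P X : Over (Spec (CommRingCat.of k))} [IsSeparated X.hom]
    [IsAffine P.left] (r₁ r₂ : P ⟶ X) {κ : Type*} (Q : κ → Over (Spec (CommRingCat.of k)))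
    (h : ∀ n, Q n ⟶ P) (heq : ∀ n, h n ≫ r₁ = h n ≫ r₂)
    (hJD : ∀ s : Γ(P.left, ⊤), (∀ n, pb (h n) s = 0) → s = 0) : r₁ = r₂ := by
  have hiso : IsIso (equalizer.ι r₁ r₂).left := by
    rw [IsClosedImmersion.isIso_iff_ker_eq_bot]
    apply Scheme.IdealSheafData.ext_of_isAffine
    rw [Scheme.Hom.ker_apply, Scheme.IdealSheafData.ideal_bot, Pi.bot_apply, eq_bot_iff]
    intro s hs
    refine hJD s fun n => ?_
    have e : h n = equalizer.lift (h n) (heq n) ≫ equalizer.ι r₁ r₂ :=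
      (equalizer.lift_ι _ _).symm
    rw [e, pb_comp]
    have hs' : pb (equalizer.ι r₁ r₂) s = 0 := hs
    rw [hs', map_zero]
  apply Over.OverMorphism.ext
  rw [← cancel_epi (equalizer.ι r₁ r₂).left]
  exact congr($(equalizer.condition r₁ r₂).left)

/-- joint schematic density of `G₀ ◁ j' n` from that of `j' n`. -/
theorem jd_whiskerLeft (G₀ U₀ : Over (Spec (CommRingCat.of k))) [QuasiCompact G₀.hom]
    [IsSeparated G₀.hom] [QuasiCompact U₀.hom] [IsSeparated U₀.hom] {κ : Type*}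
    (T : κ → Over (Spec (CommRingCat.of k))) [∀ n, QuasiCompact (T n).hom]
    [∀ n, IsSeparated (T n).hom] (j' : ∀ n, T n ⟶ U₀)
    (hK : ∀ u : Γ(U₀.left, ⊤), (∀ n, pb (j' n) u = 0) → u = 0)
    (s : Γ((G₀ ⊗ U₀).left, ⊤)) (hs : ∀ n, pb (G₀ ◁ j' n) s = 0) : s = 0 := by
  obtain ⟨c, hc⟩ := span_left G₀ U₀ (Module.Basis.ofVectorSpace k Γ(G₀.left, ⊤)) s
  have hzero : ∀ i ∈ c.support, c i = 0 := by
    intro i hi
    apply hK
    intro n
    have h1 : pb (G₀ ◁ j' n) s = ∑ i ∈ c.support,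
        pb (fst G₀ (T n)) (Module.Basis.ofVectorSpace k Γ(G₀.left, ⊤) i) *
          pb (snd G₀ (T n)) (pb (j' n) (c i)) := by
      rw [hc, map_sum]
      refine Finset.sum_congr rfl fun i _ => ?_
      rw [map_mul, ← pb_comp, ← pb_comp, whiskerLeft_fst, whiskerLeft_snd, pb_comp]
    rw [hs n] at h1
    exact indep_left G₀ (T n) _ (Module.Basis.ofVectorSpace k Γ(G₀.left, ⊤)).linearIndependent
      c.support (fun i => pb (j' n) (c i)) h1.symm i hi
  rw [hc]
  refine Finset.sum_eq_zero fun i hi => ?_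
  rw [hzero i hi, map_zero, mul_zero]

/-- morphisms out of `G ⊗ Z` agreeing on `G₀ ⊗ Z` for all affine opens `G₀` of `G` agree. -/
theorem eq_of_affine_cover_left (G Z X : Over (Spec (CommRingCat.of k))) (f₁ f₂ : G ⊗ Z ⟶ X)
    (h : ∀ (G₀ : G.left.Opens), IsAffineOpen G₀ →
      ((Over.homMk G₀.ι rfl : Over.mk (G₀.ι ≫ G.hom) ⟶ G) ▷ Z) ≫ f₁ =
        ((Over.homMk G₀.ι rfl : Over.mk (G₀.ι ≫ G.hom) ⟶ G) ▷ Z) ≫ f₂) : f₁ = f₂ := by
  apply Over.OverMorphism.ext
  apply Scheme.hom_ext_of_forall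
  intro p
  obtain ⟨G₀, hG₀, hpG₀⟩ : ∃ G₀ : G.left.Opens, IsAffineOpen G₀ ∧ (fst G Z).left p ∈ G₀ := by
    obtain ⟨G₀, hG₀, hp, -⟩ := TopologicalSpace.Opens.isBasis_iff_nbhd.mp
      G.left.isBasis_affineOpens (show (fst G Z).left p ∈ (⊤ : G.left.Opens) from trivial)
    exact ⟨G₀, hG₀, hp⟩
  refine ⟨(fst G Z).left ⁻¹ᵁ G₀, hpG₀, ?_⟩
  obtain ⟨i₀, hi₀⟩ : ∃ i₀ : Over.mk (G₀.ι ≫ G.hom) ⟶ G, i₀ = Over.homMk G₀.ι rfl := ⟨_, rfl⟩
  have hsq := isPullback_whiskerRight_left i₀ Z
  have hi₀l : i₀.left = G₀.ι := by rw [hi₀]; rfl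
  have hcomm : ((fst G Z).left ∣_ G₀) ≫ i₀.left =
      ((fst G Z).left ⁻¹ᵁ G₀).ι ≫ (fst G Z).left := by
    rw [hi₀l, morphismRestrict_ι]
  have e := hsq.lift_snd _ _ hcomm
  have h' := congrArg (fun m => m.left) (h G₀ hG₀)
  simp only [Over.comp_left] at h'
  rw [← hi₀] at h'
  rw [← e, Category.assoc, Category.assoc, h']

theorem subsingleton_primeSpectrum_quot {B : Type u} [CommRing B] (m : Ideal B) [hm : m.IsMaximal]
    (n : ℕ) : Subsingleton (PrimeSpectrum (B ⧸ m ^ (n + 1))) := by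
  have key : ∀ P : PrimeSpectrum (B ⧸ m ^ (n + 1)),
      P.asIdeal.comap (Ideal.Quotient.mk (m ^ (n + 1))) = m := by
    intro P
    have hP : (P.asIdeal.comap (Ideal.Quotient.mk (m ^ (n + 1)))).IsPrime := inferInstance
    have h1 : m ^ (n + 1) ≤ P.asIdeal.comap (Ideal.Quotient.mk (m ^ (n + 1))) := by
      intro b hb
      rw [Ideal.mem_comap, Ideal.Quotient.eq_zero_iff_mem.mpr hb]
      exact zero_mem _
    exact (hm.eq_of_le hP.ne_top (Ideal.IsPrime.le_of_pow_le h1)).symm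
  refine ⟨fun P Q => PrimeSpectrum.ext ?_⟩
  apply Ideal.comap_injective_of_surjective (Ideal.Quotient.mk (m ^ (n + 1)))
    Ideal.Quotient.mk_surjective
  rw [key P, key Q]

section Main

variable (G : Over (Spec (CommRingCat.of k))) [GrpObj G] [QuasiCompact G.hom]

theorem act_eq_snd (hG : Function.Bijective (str G))
    (X : Over (Spec (CommRingCat.of k))) [LocallyOfFiniteType X.hom] [QuasiCompact X.hom]
    [IsSeparated X.hom] [GeometricallyIntegral X.hom]
    (a : AlgGrp.Action G X) (x : 𝟙_ (Over (Spec (CommRingCat.of k))) ⟶ X)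
    (hx : a.IsFixedPt x) : a.act = snd G X := by
  haveI : IsSeparated G.hom := Groth.Agent.H9.GZB.isSeparated_hom G
  haveI : IsIntegral X.left := GeometricallyIntegral.isIntegral_of_subsingleton X.hom
  haveI : IsLocallyNoetherian X.left := LocallyOfFiniteType.isLocallyNoetherian X.hom
  have hsub : Subsingleton ↥(𝟙_ (Over (Spec (CommRingCat.of k)))).left := by
    show Subsingleton ↥(Spec (CommRingCat.of k)); infer_instance
  obtain ⟨pt⟩ : Nonempty ↥(𝟙_ (Over (Spec (CommRingCat.of k)))).left := by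
    show Nonempty ↥(Spec (CommRingCat.of k)); infer_instance
  obtain ⟨U, hU, hxU⟩ : ∃ U : X.left.Opens, IsAffineOpen U ∧ x.left pt ∈ U := by
    obtain ⟨U, hU, hxU, -⟩ := TopologicalSpace.Opens.isBasis_iff_nbhd.mp
      X.left.isBasis_affineOpens (show x.left pt ∈ (⊤ : X.left.Opens) from trivial)
    exact ⟨U, hU, hxU⟩
  have hxU' : ∀ s : ↥(𝟙_ (Over (Spec (CommRingCat.of k)))).left, x.left s ∈ U := fun s => by
    rw [Subsingleton.elim s pt]; exact hxU
  haveI : Nonempty U := ⟨⟨x.left pt, hxU⟩⟩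
  haveI : IsDomain Γ(X.left, U) := inferInstance
  haveI : IsNoetherianRing Γ(X.left, U) := IsLocallyNoetherian.component_noetherian ⟨U, hU⟩
  have hrange : Set.range x.left ⊆ Set.range hU.fromSpec := by
    rw [hU.range_fromSpec]; rintro _ ⟨s, rfl⟩; exact hxU' s
  obtain ⟨xB, hxB⟩ : ∃ xB : Spec (CommRingCat.of k) ⟶ Spec Γ(X.left, U),
      xB ≫ hU.fromSpec = x.left :=
    ⟨IsOpenImmersion.lift hU.fromSpec x.left hrange, IsOpenImmersion.lift_fac _ _ _⟩
  obtain ⟨ev, hev⟩ : ∃ ev : Γ(X.left, U) ⟶ CommRingCat.of k, Spec.map ev = xB :=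
    ⟨Spec.preimage xB, Spec.map_preimage xB⟩
  obtain ⟨φ, hφ⟩ : ∃ φ : CommRingCat.of k ⟶ Γ(X.left, U), Spec.map φ = hU.fromSpec ≫ X.hom :=
    ⟨Spec.preimage _, Spec.map_preimage _⟩
  have hxw : x.left ≫ X.hom = 𝟙 (Spec (CommRingCat.of k)) := Over.w x
  have hφev : φ ≫ ev = 𝟙 _ := by
    apply Spec.map_injective
    rw [Spec.map_comp, hev, hφ, ← Category.assoc, hxB, Spec.map_id]
    exact hxw
  have hevsurj : Function.Surjective ev.hom := fun r => ⟨φ.hom r, by
    have := congrArg (fun f => f.hom r) hφev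
    exact this⟩
  obtain ⟨m, hm⟩ : ∃ m : Ideal Γ(X.left, U), m = RingHom.ker ev.hom := ⟨_, rfl⟩
  haveI hmax : m.IsMaximal := by
    rw [hm]; exact RingHom.ker_isMaximal_of_surjective ev.hom hevsurj
  let U₀ : Over (Spec (CommRingCat.of k)) := Over.mk (hU.fromSpec ≫ X.hom)
  let j : U₀ ⟶ X := Over.homMk hU.fromSpec rfl
  let q : ∀ n : ℕ, Γ(X.left, U) ⟶ CommRingCat.of (Γ(X.left, U) ⧸ m ^ (n + 1)) := fun n =>
    CommRingCat.ofHom (Ideal.Quotient.mk (m ^ (n + 1)))
  let T : ℕ → Over (Spec (CommRingCat.of k)) := fun n =>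
    Over.mk (Spec.map (q n) ≫ hU.fromSpec ≫ X.hom)
  let j' : ∀ n, T n ⟶ U₀ := fun n => Over.homMk (Spec.map (q n)) rfl
  haveI hTq : ∀ n, QuasiCompact (T n).hom := fun n => by
    show QuasiCompact (Spec.map (q n) ≫ hU.fromSpec ≫ X.hom); infer_instance
  haveI hTs : ∀ n, IsSeparated (T n).hom := fun n => by
    show IsSeparated (Spec.map (q n) ≫ hU.fromSpec ≫ X.hom); infer_instance
  haveI hUq : QuasiCompact U₀.hom := by
    show QuasiCompact (hU.fromSpec ≫ X.hom); infer_instance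
  haveI hUs : IsSeparated U₀.hom := by
    show IsSeparated (hU.fromSpec ≫ X.hom); infer_instance
  -- Krull
  have hK : ∀ u : Γ(U₀.left, ⊤), (∀ n, pb (j' n) u = 0) → u = 0 := by
    intro u hu
    have hb : (Scheme.ΓSpecIso Γ(X.left, U)).hom.hom u ∈ (⨅ i, m ^ i : Ideal Γ(X.left, U)) := by
      rw [Ideal.mem_iInf]
      intro i
      cases i with
      | zero => rw [pow_zero, Ideal.one_eq_top]; trivial
      | succ n =>
        have h1 := congrArg (fun f => f.hom u) (Scheme.ΓSpecIso_naturality (q n))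
        have h2 : (Spec.map (q n)).appTop.hom u = 0 := hu n
        simp only [CommRingCat.hom_comp, RingHom.comp_apply] at h1
        rw [h2, map_zero] at h1
        exact Ideal.Quotient.eq_zero_iff_mem.mp h1.symm
    rw [Ideal.iInf_pow_eq_bot_of_isDomain m hmax.ne_top, Ideal.mem_bot] at hb
    exact (ConcreteCategory.bijective_of_isIso (Scheme.ΓSpecIso Γ(X.left, U)).hom).injective
      (hb.trans (map_zero _).symm)
  -- fixed point in whiskered form
  have hfix : (G ◁ x) ≫ a.act = snd G (𝟙_ (Over (Spec (CommRingCat.of k)))) ≫ x := by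
    have h1 := hx (G ⊗ 𝟙_ (Over (Spec (CommRingCat.of k))))
      (fst G (𝟙_ (Over (Spec (CommRingCat.of k)))))
    have h2 : lift (fst G (𝟙_ (Over (Spec (CommRingCat.of k))))) (toUnit _ ≫ x) = G ◁ x := by
      apply CartesianMonoidalCategory.hom_ext
      · rw [lift_fst, whiskerLeft_fst]
      · rw [lift_snd, whiskerLeft_snd,
          toUnit_unique (snd G (𝟙_ (Over (Spec (CommRingCat.of k))))) (toUnit _)]
    rw [h2] at h1
    rw [h1, toUnit_unique (snd G (𝟙_ (Over (Spec (CommRingCat.of k))))) (toUnit _)]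
  -- the claim on infinitesimal neighbourhoods
  have hclaim : ∀ n, (G ◁ (j' n ≫ j)) ≫ a.act = snd G (T n) ≫ j' n ≫ j := by
    intro n
    obtain ⟨evn, hevn⟩ : ∃ evn : CommRingCat.of (Γ(X.left, U) ⧸ m ^ (n + 1)) ⟶ CommRingCat.of k,
        q n ≫ evn = ev := by
      refine ⟨CommRingCat.ofHom (Ideal.Quotient.lift (m ^ (n + 1)) ev.hom ?_), ?_⟩
      · intro b hb
        have hbm : b ∈ m := Ideal.pow_le_self (Nat.succ_ne_zero n) hb
        rw [hm] at hbm; exact hbm
      · ext b; rfl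
    have hxw' : Spec.map evn ≫ (T n).hom = (𝟙_ (Over (Spec (CommRingCat.of k)))).hom := by
      show Spec.map evn ≫ Spec.map (q n) ≫ hU.fromSpec ≫ X.hom = 𝟙 _
      rw [← Category.assoc, ← Spec.map_comp, hevn, hev, ← Category.assoc, hxB]
      exact hxw
    let x' : 𝟙_ (Over (Spec (CommRingCat.of k))) ⟶ T n := Over.homMk (Spec.map evn) hxw'
    have hx'j : x' ≫ j' n ≫ j = x := by
      apply Over.OverMorphism.ext
      show Spec.map evn ≫ Spec.map (q n) ≫ hU.fromSpec = x.left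
      rw [← Category.assoc, ← Spec.map_comp, hevn, hev, hxB]
    have hsurj' : Surjective x'.left := by
      haveI := subsingleton_primeSpectrum_quot m n
      exact ⟨fun y => ⟨pt, Subsingleton.elim
        (α := PrimeSpectrum (Γ(X.left, U) ⧸ m ^ (n + 1))) _ _⟩⟩
    have hsurj : Surjective (G ◁ x').left :=
      MorphismProperty.of_isPullback (P := @Surjective)
        (ActDesc.isPullback_whiskerLeft_left G x') hsurj'
    have hland : ∀ p : ↥(G ⊗ T n).left, ((G ◁ (j' n ≫ j)) ≫ a.act).left p ∈ U := by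
      intro p
      obtain ⟨p', rfl⟩ := hsurj.surj p
      have e : (G ◁ x') ≫ (G ◁ (j' n ≫ j)) ≫ a.act =
          snd G (𝟙_ (Over (Spec (CommRingCat.of k)))) ≫ x := by
        rw [← Category.assoc, ← MonoidalCategory.whiskerLeft_comp, hx'j, hfix]
      have e' := congrArg (fun f => f.left p') e
      simp only [Over.comp_left, Scheme.Hom.comp_apply] at e'
      show ((G ◁ (j' n ≫ j)) ≫ a.act).left ((G ◁ x').left p') ∈ U
      simp only [Over.comp_left, Scheme.Hom.comp_apply]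
      rw [e']
      exact hxU' _
    have h1 := eq_snd_sec_comp G hG.2 (T n) ((G ◁ (j' n ≫ j)) ≫ a.act) U hU hland
    rw [h1, sec_whisker_act]
  -- act = snd on G ⊗ U₀
  have hmain : (G ◁ j) ≫ a.act = (G ◁ j) ≫ snd G X := by
    apply eq_of_affine_cover_left G U₀ X
    intro G₀ hG₀
    obtain ⟨i₀, hi₀⟩ : ∃ i₀ : Over.mk (G₀.ι ≫ G.hom) ⟶ G, i₀ = Over.homMk G₀.ι rfl := ⟨_, rfl⟩
    rw [← hi₀]
    haveI : IsAffine (G₀ : Scheme.{u}) := hG₀
    haveI : QuasiCompact (Over.mk (G₀.ι ≫ G.hom)).hom := by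
      show QuasiCompact (G₀.ι ≫ G.hom); infer_instance
    haveI : IsSeparated (Over.mk (G₀.ι ≫ G.hom)).hom := by
      show IsSeparated (G₀.ι ≫ G.hom); infer_instance
    haveI : IsAffine ((Over.mk (G₀.ι ≫ G.hom)) ⊗ U₀).left := by
      show IsAffine (pullback (G₀.ι ≫ G.hom) (hU.fromSpec ≫ X.hom)); infer_instance
    refine eq_of_jointly_dense _ _ (fun n => (Over.mk (G₀.ι ≫ G.hom)) ⊗ T n)
      (fun n => (Over.mk (G₀.ι ≫ G.hom)) ◁ j' n) (fun n => ?_)
      (fun s hs => jd_whiskerLeft _ U₀ T j' hK s hs)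
    have s1 : ((Over.mk (G₀.ι ≫ G.hom)) ◁ j' n) ≫ (i₀ ▷ U₀) ≫ (G ◁ j) ≫ a.act =
        (i₀ ▷ T n) ≫ (G ◁ (j' n ≫ j)) ≫ a.act := by
      rw [whisker_exchange_assoc, MonoidalCategory.whiskerLeft_comp, Category.assoc]
    have s2 : ((Over.mk (G₀.ι ≫ G.hom)) ◁ j' n) ≫ (i₀ ▷ U₀) ≫ (G ◁ j) ≫ snd G X =
        (i₀ ▷ T n) ≫ (G ◁ (j' n ≫ j)) ≫ snd G X := by
      rw [whisker_exchange_assoc, MonoidalCategory.whiskerLeft_comp, Category.assoc]
    rw [s1, s2, hclaim n, whiskerLeft_snd]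
  -- density
  haveI : IsOpenImmersion j.left := by show IsOpenImmersion hU.fromSpec; infer_instance
  haveI : QuasiSeparatedSpace X.left := quasiSeparatedSpace_of_quasiSeparated X.hom
  haveI : QuasiCompact j.left := by show QuasiCompact hU.fromSpec; infer_instance
  haveI : IsDominant j.left := by
    show IsDominant hU.fromSpec
    refine ⟨?_⟩
    rw [DenseRange, hU.range_fromSpec]
    exact U.isOpen.dense ⟨x.left pt, hxU⟩
  haveI : IsSchemeTheoreticallyDominant j.left := IsSchemeTheoreticallyDominant.of_isDominant _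
  obtain ⟨h1, h2⟩ := ActDesc.dominant_whiskerLeft G j
  exact ActDesc.over_epi (G ◁ j) _ _ hmain

end Main

end Groth.Agent.H8.AntiAff
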