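import Groth.Agent.Lib.Helper8.AntiAff.Main
import Groth.Prelude.Def_AlgGrp

/-!
# Linear actions on affine space (helper8)

For a homomorphism `ρ : G ⟶ GL_n` over a field, the linear action of `G` on `𝔸ⁿ` (`linAction`), with
the origin as a rational fixed point.  If this action is trivial then `ρ = 1` (`rho_eq_one`).
-/

set_option autoImplicit false
set_option linter.style.haveILetI false
universe u
open CategoryTheory MonoidalCategory CartesianMonoidalCategory MonObj GrpObj AlgebraicGeometry Limits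
  TensorProduct

namespace Groth.Agent.H8.AntiAff

variable {k : Type u} [Field k]

/-- affine `n`-space over `k` as an object over `Spec k`. -/
noncomputable def AnO (k : Type u) [Field k] (n : ℕ) : Over (Spec (CommRingCat.of k)) :=
  Over.mk (AffineSpace (ULift.{u} (Fin n)) (Spec (CommRingCat.of k)) ↘ Spec (CommRingCat.of k))

variable {n : ℕ}

/-- coordinates of a point of affine space. -/
noncomputable def vec {T : Over (Spec (CommRingCat.of k))} (v : T ⟶ AnO k n) (i : Fin n) :
    Γ(T.left, ⊤) :=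
  v.left.appTop.hom (AffineSpace.coord (Spec (CommRingCat.of k)) (ULift.up i))

/-- the point with given coordinates. -/
noncomputable def mkPt {T : Over (Spec (CommRingCat.of k))} (w : Fin n → Γ(T.left, ⊤)) :
    T ⟶ AnO k n :=
  Over.homMk (AffineSpace.homOfVector T.hom (fun i : ULift.{u} (Fin n) => w i.down))
    (AffineSpace.homOfVector_over _ _)

theorem vec_mkPt {T : Over (Spec (CommRingCat.of k))} (w : Fin n → Γ(T.left, ⊤)) (i : Fin n) :
    vec (mkPt w) i = w i :=
  AffineSpace.homOfVector_appTop_coord T.hom (fun i : ULift.{u} (Fin n) => w i.down) (ULift.up i)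

theorem vec_comp {T' T : Over (Spec (CommRingCat.of k))} (π : T' ⟶ T) (v : T ⟶ AnO k n)
    (i : Fin n) : vec (π ≫ v) i = pb π (vec v i) := by
  show (π ≫ v).left.appTop.hom _ = π.left.appTop.hom (v.left.appTop.hom _)
  rw [Over.comp_left, Scheme.Hom.comp_appTop]
  rfl

theorem ext_vec {T : Over (Spec (CommRingCat.of k))} (v₁ v₂ : T ⟶ AnO k n)
    (h : ∀ i, vec v₁ i = vec v₂ i) : v₁ = v₂ := by
  apply Over.OverMorphism.ext
  apply AffineSpace.hom_ext
  · exact (Over.w v₁).trans (Over.w v₂).symm
  · intro i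
    exact h i.down

variable (G : Over (Spec (CommRingCat.of k))) [GrpObj G]
  (ρ : G ⟶ FrB.GLn n (Spec (CommRingCat.of k)))

/-- the linear action map `(g, v) ↦ ρ(g) v`. -/
noncomputable def linAct : G ⊗ AnO k n ⟶ AnO k n :=
  mkPt (fun i => ∑ j, Tors.glFn n (fst G (AnO k n) ≫ ρ) i j * vec (snd G (AnO k n)) j)

theorem linAct_points {T : Over (Spec (CommRingCat.of k))} (g : T ⟶ G) (v : T ⟶ AnO k n)
    (i : Fin n) :
    vec (lift g v ≫ linAct G ρ) i = ∑ j, Tors.glFn n (g ≫ ρ) i j * vec v j := by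
  unfold linAct
  rw [vec_comp, vec_mkPt, map_sum]
  refine Finset.sum_congr rfl fun j _ => ?_
  rw [map_mul, ← vec_comp, lift_snd]
  congr 1
  have h := Tors.glFn_comp (lift g v) (fst G (AnO k n) ≫ ρ)
  rw [← Category.assoc, lift_fst] at h
  rw [h]
  rfl

/-- the linear action. -/
noncomputable def linAction [IsMonHom ρ] : AlgGrp.Action G (AnO k n) where
  act := linAct G ρ
  one_act := by
    classical
    apply ext_vec
    intro i
    have h1 : (η[G] ▷ AnO k n) = lift (fst _ _ ≫ η[G]) (snd _ _) := by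
      apply CartesianMonoidalCategory.hom_ext
      · rw [whiskerRight_fst, lift_fst]
      · rw [whiskerRight_snd, lift_snd]
    have h2 : (fst (𝟙_ (Over (Spec (CommRingCat.of k)))) (AnO k n) ≫ η[G]) ≫ ρ = 1 := by
      rw [Category.assoc, IsMonHom.one_hom,
        MonObj.one_eq_one (FrB.GLn n (Spec (CommRingCat.of k))), MonObj.comp_one]
    rw [h1, linAct_points, leftUnitor_hom, h2, glFn_one']
    simp [Matrix.one_apply]
  mul_act := by
    apply ext_vec
    intro i
    obtain ⟨g₁, hg₁⟩ : ∃ g₁ : (G ⊗ G) ⊗ AnO k n ⟶ G, g₁ = fst _ _ ≫ fst G G := ⟨_, rfl⟩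
    obtain ⟨g₂, hg₂⟩ : ∃ g₂ : (G ⊗ G) ⊗ AnO k n ⟶ G, g₂ = fst _ _ ≫ snd G G := ⟨_, rfl⟩
    obtain ⟨x, hx⟩ : ∃ x : (G ⊗ G) ⊗ AnO k n ⟶ AnO k n, x = snd _ _ := ⟨_, rfl⟩
    have h1 : (μ[G] ▷ AnO k n) = lift (g₁ * g₂) x := by
      apply CartesianMonoidalCategory.hom_ext
      · rw [whiskerRight_fst, lift_fst, hg₁, hg₂, ← MonObj.comp_mul, ← MonObj.mul_eq_mul]
      · rw [whiskerRight_snd, lift_snd, hx]
    have h2 : (α_ G G (AnO k n)).hom ≫ (G ◁ linAct G ρ) =
        lift g₁ (lift g₂ x ≫ linAct G ρ) := by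
      apply CartesianMonoidalCategory.hom_ext
      · rw [Category.assoc, whiskerLeft_fst, associator_hom_fst, lift_fst, hg₁]
      · rw [Category.assoc, whiskerLeft_snd, lift_snd, ← Category.assoc]
        congr 1
        apply CartesianMonoidalCategory.hom_ext
        · rw [Category.assoc, associator_hom_snd_fst, lift_fst, hg₂]
        · rw [Category.assoc, associator_hom_snd_snd, lift_snd, hx]
    rw [h1, linAct_points, ← Category.assoc, h2, linAct_points, MonObj.mul_comp g₁ g₂ ρ,
      Tors.glFn_mul]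
    simp_rw [linAct_points, Matrix.mul_apply, Finset.sum_mul, Finset.mul_sum]
    rw [Finset.sum_comm]
    refine Finset.sum_congr rfl fun j _ => Finset.sum_congr rfl fun l _ => ?_
    rw [_root_.mul_assoc]

theorem rho_eq_one
    (H : ∀ (X : Over (Spec (CommRingCat.of k))) [LocallyOfFiniteType X.hom] [QuasiCompact X.hom]
      [IsSeparated X.hom] [GeometricallyIntegral X.hom] (a : AlgGrp.Action G X)
      (x : 𝟙_ (Over (Spec (CommRingCat.of k))) ⟶ X), a.IsFixedPt x → a.act = snd G X)
    [IsMonHom ρ] : ρ = 1 := by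
  classical
  haveI : LocallyOfFiniteType (AnO k n).hom := by
    show LocallyOfFiniteType
      (AffineSpace (ULift.{u} (Fin n)) (Spec (CommRingCat.of k)) ↘ Spec (CommRingCat.of k))
    infer_instance
  haveI : QuasiCompact (AnO k n).hom := by
    show QuasiCompact
      (AffineSpace (ULift.{u} (Fin n)) (Spec (CommRingCat.of k)) ↘ Spec (CommRingCat.of k))
    infer_instance
  haveI : IsSeparated (AnO k n).hom := by
    show IsSeparated
      (AffineSpace (ULift.{u} (Fin n)) (Spec (CommRingCat.of k)) ↘ Spec (CommRingCat.of k))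
    infer_instance
  haveI : GeometricallyIntegral (AnO k n).hom := by
    show GeometricallyIntegral
      (AffineSpace (ULift.{u} (Fin n)) (Spec (CommRingCat.of k)) ↘ Spec (CommRingCat.of k))
    infer_instance
  have hfix : (linAction G ρ).IsFixedPt (mkPt (fun _ => 0)) := by
    intro T g
    apply ext_vec
    intro i
    show vec (lift g (toUnit T ≫ mkPt fun _ => 0) ≫ linAct G ρ) i = _
    rw [linAct_points, vec_comp, vec_mkPt, map_zero]
    refine Finset.sum_eq_zero fun j _ => ?_
    rw [vec_comp, vec_mkPt, map_zero, mul_zero]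
  have hact : linAct G ρ = snd G (AnO k n) := H (AnO k n) (linAction G ρ) _ hfix
  apply Tors.glFn_injective
  rw [glFn_one']
  ext i l
  have h1 := linAct_points G ρ (𝟙 G)
    (mkPt (fun j => if j = l then (1 : Γ(G.left, ⊤)) else 0)) i
  rw [hact, lift_snd, vec_mkPt, Category.id_comp] at h1
  simp_rw [vec_mkPt] at h1
  rw [Matrix.one_apply]
  simpa using h1.symm

end Groth.Agent.H8.AntiAff
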