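import Groth.Agent.Lib.Helper8.AntiAff.FixA
import Groth.Agent.Lib.Helper8.AntiAff.FixB

/-!
# Variants of `act_eq_snd` / `rho_eq_one` with `IsIntegral X.left` instead of geometric integrality
(helper8)
-/

set_option autoImplicit false
set_option linter.style.haveILetI false
universe u
open CategoryTheory MonoidalCategory CartesianMonoidalCategory MonObj GrpObj AlgebraicGeometry Limits
  TensorProduct

namespace Groth.Agent.H8.AntiAff

variable {k : Type u} [Field k]

section Main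

variable (G : Over (Spec (CommRingCat.of k))) [GrpObj G] [QuasiCompact G.hom]

theorem act_eq_snd' (hG : Function.Bijective (str G))
    (X : Over (Spec (CommRingCat.of k))) [LocallyOfFiniteType X.hom] [QuasiCompact X.hom]
    [IsSeparated X.hom] [IsIntegral X.left]
    (a : AlgGrp.Action G X) (x : 𝟙_ (Over (Spec (CommRingCat.of k))) ⟶ X)
    (hx : a.IsFixedPt x) : a.act = snd G X := by
  haveI : IsSeparated G.hom := Groth.Agent.H9.GZB.isSeparated_hom G
  haveI : IsLocallyNoetherian X.left := LocallyOfFiniteType.isLocallyNoetherian X.hom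
  have hsub : Subsingleton ↥(𝟙_ (Over (Spec (CommRingCat.of k)))).left := by
    show Subsingleton ↥(Spec (CommRingCat.of k)); infer_instance
  obtain ⟨pt⟩ : Nonempty ↥(𝟙_ (Over (Spec (CommRingCat.of k)))).left := by
    show Nonempty ↥(Spec (CommRingCat.of k)); infer_instance
  obtain ⟨U, hU, hxU⟩ : ∃ U : X.left.Opens, IsAffineOpen U ∧ x.left pt ∈ U := by
    obtain ⟨U, hU, hxU, -⟩ := TopologicalSpace.Opens.isBasis_iff_nbhd.mp
      X.left.isBasis_affineOpens (show x.left pt ∈ (⊤ : X.left.Opens) from trivial)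
    exact ⟨U, hU, hxU⟩
  have hxU' : ∀ s : ↥(𝟙_ (Over (Spec (CommRingCat.of k)))).left, x.left s ∈ U := fun s => by
    rw [Subsingleton.elim s pt]; exact hxU
  haveI : Nonempty U := ⟨⟨x.left pt, hxU⟩⟩
  haveI : IsDomain Γ(X.left, U) := inferInstance
  haveI : IsNoetherianRing Γ(X.left, U) := IsLocallyNoetherian.component_noetherian ⟨U, hU⟩
  have hrange : Set.range x.left ⊆ Set.range hU.fromSpec := by
    rw [hU.range_fromSpec]; rintro _ ⟨s, rfl⟩; exact hxU' s
  obtain ⟨xB, hxB⟩ : ∃ xB : Spec (CommRingCat.of k) ⟶ Spec Γ(X.left, U),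
      xB ≫ hU.fromSpec = x.left :=
    ⟨IsOpenImmersion.lift hU.fromSpec x.left hrange, IsOpenImmersion.lift_fac _ _ _⟩
  obtain ⟨ev, hev⟩ : ∃ ev : Γ(X.left, U) ⟶ CommRingCat.of k, Spec.map ev = xB :=
    ⟨Spec.preimage xB, Spec.map_preimage xB⟩
  obtain ⟨φ, hφ⟩ : ∃ φ : CommRingCat.of k ⟶ Γ(X.left, U), Spec.map φ = hU.fromSpec ≫ X.hom :=
    ⟨Spec.preimage _, Spec.map_preimage _⟩
  have hxw : x.left ≫ X.hom = 𝟙 (Spec (CommRingCat.of k)) := Over.w x
  have hφev : φ ≫ ev = 𝟙 _ := by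
    apply Spec.map_injective
    rw [Spec.map_comp, hev, hφ, ← Category.assoc, hxB, Spec.map_id]
    exact hxw
  have hevsurj : Function.Surjective ev.hom := fun r => ⟨φ.hom r, by
    have := congrArg (fun f => f.hom r) hφev
    exact this⟩
  obtain ⟨m, hm⟩ : ∃ m : Ideal Γ(X.left, U), m = RingHom.ker ev.hom := ⟨_, rfl⟩
  haveI hmax : m.IsMaximal := by
    rw [hm]; exact RingHom.ker_isMaximal_of_surjective ev.hom hevsurj
  let U₀ : Over (Spec (CommRingCat.of k)) := Over.mk (hU.fromSpec ≫ X.hom)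
  let j : U₀ ⟶ X := Over.homMk hU.fromSpec rfl
  let q : ∀ n : ℕ, Γ(X.left, U) ⟶ CommRingCat.of (Γ(X.left, U) ⧸ m ^ (n + 1)) := fun n =>
    CommRingCat.ofHom (Ideal.Quotient.mk (m ^ (n + 1)))
  let T : ℕ → Over (Spec (CommRingCat.of k)) := fun n =>
    Over.mk (Spec.map (q n) ≫ hU.fromSpec ≫ X.hom)
  let j' : ∀ n, T n ⟶ U₀ := fun n => Over.homMk (Spec.map (q n)) rfl
  haveI hTq : ∀ n, QuasiCompact (T n).hom := fun n => by
    show QuasiCompact (Spec.map (q n) ≫ hU.fromSpec ≫ X.hom); infer_instance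
  haveI hTs : ∀ n, IsSeparated (T n).hom := fun n => by
    show IsSeparated (Spec.map (q n) ≫ hU.fromSpec ≫ X.hom); infer_instance
  haveI hUq : QuasiCompact U₀.hom := by
    show QuasiCompact (hU.fromSpec ≫ X.hom); infer_instance
  haveI hUs : IsSeparated U₀.hom := by
    show IsSeparated (hU.fromSpec ≫ X.hom); infer_instance
  -- Krull
  have hK : ∀ u : Γ(U₀.left, ⊤), (∀ n, pb (j' n) u = 0) → u = 0 := by
    intro u hu
    have hb : (Scheme.ΓSpecIso Γ(X.left, U)).hom.hom u ∈ (⨅ i, m ^ i : Ideal Γ(X.left, U)) := by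
      rw [Ideal.mem_iInf]
      intro i
      cases i with
      | zero => rw [pow_zero, Ideal.one_eq_top]; trivial
      | succ n =>
        have h1 := congrArg (fun f => f.hom u) (Scheme.ΓSpecIso_naturality (q n))
        have h2 : (Spec.map (q n)).appTop.hom u = 0 := hu n
        simp only [CommRingCat.hom_comp, RingHom.comp_apply] at h1
        rw [h2, map_zero] at h1
        exact Ideal.Quotient.eq_zero_iff_mem.mp h1.symm
    rw [Ideal.iInf_pow_eq_bot_of_isDomain m hmax.ne_top, Ideal.mem_bot] at hb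
    exact (ConcreteCategory.bijective_of_isIso (Scheme.ΓSpecIso Γ(X.left, U)).hom).injective
      (hb.trans (map_zero _).symm)
  -- fixed point in whiskered form
  have hfix : (G ◁ x) ≫ a.act = snd G (𝟙_ (Over (Spec (CommRingCat.of k)))) ≫ x := by
    have h1 := hx (G ⊗ 𝟙_ (Over (Spec (CommRingCat.of k))))
      (fst G (𝟙_ (Over (Spec (CommRingCat.of k)))))
    have h2 : lift (fst G (𝟙_ (Over (Spec (CommRingCat.of k))))) (toUnit _ ≫ x) = G ◁ x := by
      apply CartesianMonoidalCategory.hom_ext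
      · rw [lift_fst, whiskerLeft_fst]
      · rw [lift_snd, whiskerLeft_snd,
          toUnit_unique (snd G (𝟙_ (Over (Spec (CommRingCat.of k))))) (toUnit _)]
    rw [h2] at h1
    rw [h1, toUnit_unique (snd G (𝟙_ (Over (Spec (CommRingCat.of k))))) (toUnit _)]
  -- the claim on infinitesimal neighbourhoods
  have hclaim : ∀ n, (G ◁ (j' n ≫ j)) ≫ a.act = snd G (T n) ≫ j' n ≫ j := by
    intro n
    obtain ⟨evn, hevn⟩ : ∃ evn : CommRingCat.of (Γ(X.left, U) ⧸ m ^ (n + 1)) ⟶ CommRingCat.of k,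
        q n ≫ evn = ev := by
      refine ⟨CommRingCat.ofHom (Ideal.Quotient.lift (m ^ (n + 1)) ev.hom ?_), ?_⟩
      · intro b hb
        have hbm : b ∈ m := Ideal.pow_le_self (Nat.succ_ne_zero n) hb
        rw [hm] at hbm; exact hbm
      · ext b; rfl
    have hxw' : Spec.map evn ≫ (T n).hom = (𝟙_ (Over (Spec (CommRingCat.of k)))).hom := by
      show Spec.map evn ≫ Spec.map (q n) ≫ hU.fromSpec ≫ X.hom = 𝟙 _
      rw [← Category.assoc, ← Spec.map_comp, hevn, hev, ← Category.assoc, hxB]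
      exact hxw
    let x' : 𝟙_ (Over (Spec (CommRingCat.of k))) ⟶ T n := Over.homMk (Spec.map evn) hxw'
    have hx'j : x' ≫ j' n ≫ j = x := by
      apply Over.OverMorphism.ext
      show Spec.map evn ≫ Spec.map (q n) ≫ hU.fromSpec = x.left
      rw [← Category.assoc, ← Spec.map_comp, hevn, hev, hxB]
    have hsurj' : Surjective x'.left := by
      haveI := subsingleton_primeSpectrum_quot m n
      exact ⟨fun y => ⟨pt, Subsingleton.elim
        (α := PrimeSpectrum (Γ(X.left, U) ⧸ m ^ (n + 1))) _ _⟩⟩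
    have hsurj : Surjective (G ◁ x').left :=
      MorphismProperty.of_isPullback (P := @Surjective)
        (ActDesc.isPullback_whiskerLeft_left G x') hsurj'
    have hland : ∀ p : ↥(G ⊗ T n).left, ((G ◁ (j' n ≫ j)) ≫ a.act).left p ∈ U := by
      intro p
      obtain ⟨p', rfl⟩ := hsurj.surj p
      have e : (G ◁ x') ≫ (G ◁ (j' n ≫ j)) ≫ a.act =
          snd G (𝟙_ (Over (Spec (CommRingCat.of k)))) ≫ x := by
        rw [← Category.assoc, ← MonoidalCategory.whiskerLeft_comp, hx'j, hfix]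
      have e' := congrArg (fun f => f.left p') e
      simp only [Over.comp_left, Scheme.Hom.comp_apply] at e'
      show ((G ◁ (j' n ≫ j)) ≫ a.act).left ((G ◁ x').left p') ∈ U
      simp only [Over.comp_left, Scheme.Hom.comp_apply]
      rw [e']
      exact hxU' _
    have h1 := eq_snd_sec_comp G hG.2 (T n) ((G ◁ (j' n ≫ j)) ≫ a.act) U hU hland
    rw [h1, sec_whisker_act]
  -- act = snd on G ⊗ U₀
  have hmain : (G ◁ j) ≫ a.act = (G ◁ j) ≫ snd G X := by
    apply eq_of_affine_cover_left G U₀ X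
    intro G₀ hG₀
    obtain ⟨i₀, hi₀⟩ : ∃ i₀ : Over.mk (G₀.ι ≫ G.hom) ⟶ G, i₀ = Over.homMk G₀.ι rfl := ⟨_, rfl⟩
    rw [← hi₀]
    haveI : IsAffine (G₀ : Scheme.{u}) := hG₀
    haveI : QuasiCompact (Over.mk (G₀.ι ≫ G.hom)).hom := by
      show QuasiCompact (G₀.ι ≫ G.hom); infer_instance
    haveI : IsSeparated (Over.mk (G₀.ι ≫ G.hom)).hom := by
      show IsSeparated (G₀.ι ≫ G.hom); infer_instance
    haveI : IsAffine ((Over.mk (G₀.ι ≫ G.hom)) ⊗ U₀).left := by
      show IsAffine (pullback (G₀.ι ≫ G.hom) (hU.fromSpec ≫ X.hom)); infer_instance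
    refine eq_of_jointly_dense _ _ (fun n => (Over.mk (G₀.ι ≫ G.hom)) ⊗ T n)
      (fun n => (Over.mk (G₀.ι ≫ G.hom)) ◁ j' n) (fun n => ?_)
      (fun s hs => jd_whiskerLeft _ U₀ T j' hK s hs)
    have s1 : ((Over.mk (G₀.ι ≫ G.hom)) ◁ j' n) ≫ (i₀ ▷ U₀) ≫ (G ◁ j) ≫ a.act =
        (i₀ ▷ T n) ≫ (G ◁ (j' n ≫ j)) ≫ a.act := by
      rw [whisker_exchange_assoc, MonoidalCategory.whiskerLeft_comp, Category.assoc]
    have s2 : ((Over.mk (G₀.ι ≫ G.hom)) ◁ j' n) ≫ (i₀ ▷ U₀) ≫ (G ◁ j) ≫ snd G X =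
        (i₀ ▷ T n) ≫ (G ◁ (j' n ≫ j)) ≫ snd G X := by
      rw [whisker_exchange_assoc, MonoidalCategory.whiskerLeft_comp, Category.assoc]
    rw [s1, s2, hclaim n, whiskerLeft_snd]
  -- density
  haveI : IsOpenImmersion j.left := by show IsOpenImmersion hU.fromSpec; infer_instance
  haveI : QuasiSeparatedSpace X.left := quasiSeparatedSpace_of_quasiSeparated X.hom
  haveI : QuasiCompact j.left := by show QuasiCompact hU.fromSpec; infer_instance
  haveI : IsDominant j.left := by
    show IsDominant hU.fromSpec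
    refine ⟨?_⟩
    rw [DenseRange, hU.range_fromSpec]
    exact U.isOpen.dense ⟨x.left pt, hxU⟩
  haveI : IsSchemeTheoreticallyDominant j.left := IsSchemeTheoreticallyDominant.of_isDominant _
  obtain ⟨h1, h2⟩ := ActDesc.dominant_whiskerLeft G j
  exact ActDesc.over_epi (G ◁ j) _ _ hmain

end Main

section Rho

variable {n : ℕ} (G : Over (Spec (CommRingCat.of k))) [GrpObj G]
  (ρ : G ⟶ FrB.GLn n (Spec (CommRingCat.of k)))

theorem rho_eq_one'
    (H : ∀ (X : Over (Spec (CommRingCat.of k))) [LocallyOfFiniteType X.hom] [QuasiCompact X.hom]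
      [IsSeparated X.hom] [IsIntegral X.left] (a : AlgGrp.Action G X)
      (x : 𝟙_ (Over (Spec (CommRingCat.of k))) ⟶ X), a.IsFixedPt x → a.act = snd G X)
    [IsMonHom ρ] : ρ = 1 := by
  classical
  haveI : LocallyOfFiniteType (AnO k n).hom := by
    show LocallyOfFiniteType
      (AffineSpace (ULift.{u} (Fin n)) (Spec (CommRingCat.of k)) ↘ Spec (CommRingCat.of k))
    infer_instance
  haveI : QuasiCompact (AnO k n).hom := by
    show QuasiCompact
      (AffineSpace (ULift.{u} (Fin n)) (Spec (CommRingCat.of k)) ↘ Spec (CommRingCat.of k))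
    infer_instance
  haveI : IsSeparated (AnO k n).hom := by
    show IsSeparated
      (AffineSpace (ULift.{u} (Fin n)) (Spec (CommRingCat.of k)) ↘ Spec (CommRingCat.of k))
    infer_instance
  haveI : IsIntegral (AnO k n).left := by
    show IsIntegral (AffineSpace (ULift.{u} (Fin n)) (Spec (CommRingCat.of k)))
    infer_instance
  have hfix : (linAction G ρ).IsFixedPt (mkPt (fun _ => 0)) := by
    intro T g
    apply ext_vec
    intro i
    show vec (lift g (toUnit T ≫ mkPt fun _ => 0) ≫ linAct G ρ) i = _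
    rw [linAct_points, vec_comp, vec_mkPt, map_zero]
    refine Finset.sum_eq_zero fun j _ => ?_
    rw [vec_comp, vec_mkPt, map_zero, mul_zero]
  have hact : linAct G ρ = snd G (AnO k n) := H (AnO k n) (linAction G ρ) _ hfix
  apply Tors.glFn_injective
  rw [glFn_one']
  ext i l
  have h1 := linAct_points G ρ (𝟙 G)
    (mkPt (fun j => if j = l then (1 : Γ(G.left, ⊤)) else 0)) i
  rw [hact, lift_snd, vec_mkPt, Category.id_comp] at h1
  simp_rw [vec_mkPt] at h1
  rw [Matrix.one_apply]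
  simpa using h1.symm

end Rho

end Groth.Agent.H8.AntiAff
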