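import Mathlib
import Groth.Agent.Lib.Helper5.AG.Kunneth

/-!
# Global functions on products of quasi-compact separated schemes over a field (helper8)

`k` a field, `X Y : Over (Spec k)`.  `Γ(X, O)` is a `k`-algebra (`algΓ`, scoped instance),
`pb x : Γ(X) →ₐ[k] Γ(T)` is the pullback of functions along `x : T ⟶ X`.  From helper5's Künneth
pushout square we get `Γ(X) ⊗[k] Γ(Y) ≃+* Γ(X ⊗ Y)`, `a ⊗ b ↦ fst^* a * snd^* b` (`kunneth`), and
the consequences used in practice: `span_right` (every function on `X ⊗ Y` is a finite sum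
`∑ fst^*(c i) * snd^*(𝒷 i)` over a basis `𝒷` of `Γ(Y)`), `indep_right`, `indep_left`.
-/

set_option autoImplicit false
set_option linter.style.haveILetI false
universe u
open CategoryTheory MonoidalCategory CartesianMonoidalCategory AlgebraicGeometry Limits TensorProduct

namespace Groth.Agent.H8.AntiAff

variable {k : Type u} [Field k]

/-- the structure map `k → Γ(X, O)` -/
noncomputable def str (X : Over (Spec (CommRingCat.of k))) : k →+* Γ(X.left, ⊤) :=
  ((Scheme.ΓSpecIso (CommRingCat.of k)).inv ≫ X.hom.appTop).hom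

/-- `Γ(X, O)` as a `k`-algebra -/
noncomputable scoped instance algΓ (X : Over (Spec (CommRingCat.of k))) : Algebra k Γ(X.left, ⊤) :=
  (str X).toAlgebra

theorem algebraMap_eq (X : Over (Spec (CommRingCat.of k))) :
    algebraMap k Γ(X.left, ⊤) = str X := rfl

theorem str_comp {T X : Over (Spec (CommRingCat.of k))} (x : T ⟶ X) (r : k) :
    x.left.appTop.hom (str X r) = str T r := by
  have h : T.hom.appTop = X.hom.appTop ≫ x.left.appTop := by
    rw [← Scheme.Hom.comp_appTop, Over.w]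
  unfold str
  rw [h]
  rfl

/-- pullback of global functions along a morphism over `k` -/
noncomputable def pb {T X : Over (Spec (CommRingCat.of k))} (x : T ⟶ X) :
    Γ(X.left, ⊤) →ₐ[k] Γ(T.left, ⊤) :=
  { x.left.appTop.hom with commutes' := fun r => str_comp x r }

theorem pb_apply {T X : Over (Spec (CommRingCat.of k))} (x : T ⟶ X) (a : Γ(X.left, ⊤)) :
    pb x a = x.left.appTop.hom a := rfl

theorem pb_comp {T' T X : Over (Spec (CommRingCat.of k))} (π : T' ⟶ T) (x : T ⟶ X)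
    (a : Γ(X.left, ⊤)) : pb (π ≫ x) a = pb π (pb x a) := by
  show (π ≫ x).left.appTop.hom a = π.left.appTop.hom (x.left.appTop.hom a)
  rw [Over.comp_left, Scheme.Hom.comp_appTop]
  rfl

theorem pb_id {X : Over (Spec (CommRingCat.of k))} (a : Γ(X.left, ⊤)) : pb (𝟙 X) a = a := rfl

theorem exists_eq_algebraMap_unit (t : Γ((𝟙_ (Over (Spec (CommRingCat.of k)))).left, ⊤)) :
    ∃ r : k, t = algebraMap k Γ((𝟙_ (Over (Spec (CommRingCat.of k)))).left, ⊤) r := by
  obtain ⟨r, hr⟩ :=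
    (ConcreteCategory.bijective_of_isIso (Scheme.ΓSpecIso (CommRingCat.of k)).inv).2 t
  refine ⟨r, ?_⟩
  rw [← hr]
  rfl

theorem qc_tensor (X Y : Over (Spec (CommRingCat.of k))) [QuasiCompact X.hom]
    [QuasiCompact Y.hom] : QuasiCompact (X ⊗ Y).hom := by
  rw [Over.tensorObj_hom]; infer_instance

theorem sep_tensor (X Y : Over (Spec (CommRingCat.of k))) [IsSeparated X.hom]
    [IsSeparated Y.hom] : IsSeparated (X ⊗ Y).hom := by
  rw [Over.tensorObj_hom]; infer_instance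

theorem kunneth (X Y : Over (Spec (CommRingCat.of k))) [QuasiCompact X.hom] [IsSeparated X.hom]
    [QuasiCompact Y.hom] [IsSeparated Y.hom] :
    ∃ e : Γ(X.left, ⊤) ⊗[k] Γ(Y.left, ⊤) ≃+* Γ((X ⊗ Y).left, ⊤),
      ∀ a b, e (a ⊗ₜ[k] b) = pb (fst X Y) a * pb (snd X Y) b := by
  letI : X.left.Over (Spec (CommRingCat.of k)) := ⟨X.hom⟩
  letI : Y.left.Over (Spec (CommRingCat.of k)) := ⟨Y.hom⟩
  haveI : CompactSpace X.left := QuasiCompact.compactSpace_of_compactSpace X.hom
  haveI : CompactSpace Y.left := QuasiCompact.compactSpace_of_compactSpace Y.hom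
  haveI : IsAffineHom (pullback.diagonal (X.left ↘ Spec (CommRingCat.of k))) :=
    inferInstanceAs (IsAffineHom (pullback.diagonal X.hom))
  haveI : IsAffineHom (pullback.diagonal (Y.left ↘ Spec (CommRingCat.of k))) :=
    inferInstanceAs (IsAffineHom (pullback.diagonal Y.hom))
  have H1 := Groth.Agent.H5.Kunneth.isPushout_appTop k X.left Y.left
  have H1' : IsPushout X.hom.appTop Y.hom.appTop (fst X Y).left.appTop (snd X Y).left.appTop := H1
  have H2 : IsPushout (CommRingCat.ofHom (algebraMap k Γ(X.left, ⊤)))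
      (CommRingCat.ofHom (algebraMap k Γ(Y.left, ⊤)))
      (fst X Y).left.appTop (snd X Y).left.appTop := by
    refine IsPushout.of_iso H1' (Scheme.ΓSpecIso (CommRingCat.of k)) (Iso.refl _) (Iso.refl _)
      (Iso.refl _) ?_ ?_ ?_ ?_
    · rw [Iso.refl_hom, Category.comp_id]
      show _ = (Scheme.ΓSpecIso (CommRingCat.of k)).hom ≫
        ((Scheme.ΓSpecIso (CommRingCat.of k)).inv ≫ X.hom.appTop)
      rw [Iso.hom_inv_id_assoc]
    · rw [Iso.refl_hom, Category.comp_id]
      show _ = (Scheme.ΓSpecIso (CommRingCat.of k)).hom ≫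
        ((Scheme.ΓSpecIso (CommRingCat.of k)).inv ≫ Y.hom.appTop)
      rw [Iso.hom_inv_id_assoc]
    · simp
    · simp
  have H3 := CommRingCat.isPushout_tensorProduct k Γ(X.left, ⊤) Γ(Y.left, ⊤)
  let e := H3.isoIsPushout _ _ H2
  have h1 : ∀ a, e.hom.hom (a ⊗ₜ[k] (1 : Γ(Y.left, ⊤))) = pb (fst X Y) a := fun a =>
    congrArg (fun f : CommRingCat.of Γ(X.left, ⊤) ⟶ Γ((X ⊗ Y).left, ⊤) => f.hom a)
      (H3.inl_isoIsPushout_hom _ _ H2)
  have h2 : ∀ b, e.hom.hom ((1 : Γ(X.left, ⊤)) ⊗ₜ[k] b) = pb (snd X Y) b := fun b =>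
    congrArg (fun f : CommRingCat.of Γ(Y.left, ⊤) ⟶ Γ((X ⊗ Y).left, ⊤) => f.hom b)
      (H3.inr_isoIsPushout_hom _ _ H2)
  refine ⟨e.commRingCatIsoToRingEquiv, fun a b => ?_⟩
  have h3 : a ⊗ₜ[k] b = (a ⊗ₜ[k] (1 : Γ(Y.left, ⊤))) * ((1 : Γ(X.left, ⊤)) ⊗ₜ[k] b) := by
    rw [Algebra.TensorProduct.tmul_mul_tmul, mul_one, one_mul]
  show e.hom.hom (a ⊗ₜ[k] b) = _
  rw [h3, map_mul, h1, h2]

section tensor

variable {M N : Type*} [AddCommGroup M] [Module k M] [AddCommGroup N] [Module k N]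

theorem exists_dual_of_linearIndependent {ι' : Type*} [DecidableEq ι'] (q : ι' → N)
    (hq : LinearIndependent k q) (m₀ : ι') :
    ∃ φ : N →ₗ[k] k, ∀ m, φ (q m) = if m = m₀ then 1 else 0 := by
  obtain ⟨φ, hφ⟩ := LinearMap.exists_extend ((Finsupp.lapply m₀).comp hq.repr)
  refine ⟨φ, fun m => ?_⟩
  have h1 := congrArg
    (fun g : Submodule.span k (Set.range q) →ₗ[k] k =>
      g ⟨q m, Submodule.subset_span (Set.mem_range_self m)⟩) hφ
  simp only [LinearMap.comp_apply, Submodule.subtype_apply] at h1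
  rw [h1, Finsupp.lapply_apply, hq.repr_eq_single m _ rfl, Finsupp.single_apply]

theorem tmul_indep_right {ι' : Type*} (q : ι' → N) (hq : LinearIndependent k q) (J : Finset ι')
    (p : ι' → M) (h : ∑ m ∈ J, p m ⊗ₜ[k] q m = 0) : ∀ m ∈ J, p m = 0 := by
  classical
  intro m₀ hm₀
  obtain ⟨φ, hφ⟩ := exists_dual_of_linearIndependent q hq m₀
  have h2 := congrArg (fun t => TensorProduct.rid k M (LinearMap.lTensor M φ t)) h
  simp only [map_sum, LinearMap.lTensor_tmul, TensorProduct.rid_tmul, map_zero, hφ] at h2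
  simpa [ite_smul, Finset.sum_ite_eq', hm₀] using h2

theorem tmul_indep_left {ι' : Type*} (p : ι' → M) (hp : LinearIndependent k p) (J : Finset ι')
    (q : ι' → N) (h : ∑ m ∈ J, p m ⊗ₜ[k] q m = 0) : ∀ m ∈ J, q m = 0 := by
  classical
  intro m₀ hm₀
  obtain ⟨φ, hφ⟩ := exists_dual_of_linearIndependent p hp m₀
  have h2 := congrArg (fun t => TensorProduct.lid k N (LinearMap.rTensor N φ t)) h
  simp only [map_sum, LinearMap.rTensor_tmul, TensorProduct.lid_tmul, map_zero, hφ] at h2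
  simpa [ite_smul, Finset.sum_ite_eq', hm₀] using h2

end tensor

section consequences

variable (X Y : Over (Spec (CommRingCat.of k))) [QuasiCompact X.hom] [IsSeparated X.hom]
  [QuasiCompact Y.hom] [IsSeparated Y.hom]

theorem span_right {ι : Type*} (𝒷 : Module.Basis ι k Γ(Y.left, ⊤)) (F : Γ((X ⊗ Y).left, ⊤)) :
    ∃ c : ι →₀ Γ(X.left, ⊤),
      F = ∑ i ∈ c.support, pb (fst X Y) (c i) * pb (snd X Y) (𝒷 i) := by
  obtain ⟨e, he⟩ := kunneth X Y
  obtain ⟨c, hc⟩ := TensorProduct.eq_repr_basis_right 𝒷 (e.symm F)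
  refine ⟨c, ?_⟩
  have h := congrArg e hc
  rw [RingEquiv.apply_symm_apply] at h
  rw [← h, Finsupp.sum, map_sum]
  exact Finset.sum_congr rfl fun i _ => he _ _

theorem indep_right {ι' : Type*} (q : ι' → Γ(Y.left, ⊤)) (hq : LinearIndependent k q)
    (J : Finset ι') (p : ι' → Γ(X.left, ⊤))
    (h : ∑ m ∈ J, pb (fst X Y) (p m) * pb (snd X Y) (q m) = 0) : ∀ m ∈ J, p m = 0 := by
  obtain ⟨e, he⟩ := kunneth X Y
  apply tmul_indep_right q hq J p
  apply e.injective
  rw [map_sum, map_zero, ← h]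
  exact Finset.sum_congr rfl fun m _ => he _ _

theorem indep_left {ι' : Type*} (p : ι' → Γ(X.left, ⊤)) (hp : LinearIndependent k p)
    (J : Finset ι') (q : ι' → Γ(Y.left, ⊤))
    (h : ∑ m ∈ J, pb (fst X Y) (p m) * pb (snd X Y) (q m) = 0) : ∀ m ∈ J, q m = 0 := by
  obtain ⟨e, he⟩ := kunneth X Y
  apply tmul_indep_left p hp J q
  apply e.injective
  rw [map_sum, map_zero, ← h]
  exact Finset.sum_congr rfl fun m _ => he _ _

end consequences

end Groth.Agent.H8.AntiAff
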