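import Mathlib
import Groth.Prelude.Def_FrameBundle
import Groth.Agent.Lib.Helper8.AntiAff.Kun
import Groth.Agent.Lib.Helper9.Misc.GZB2
import Groth.Agent.Lib.Helper8.Tors.GLPts

/-!
# Anti-affine group schemes and linear representations (helper8)

`k` a field, `G` a quasi-compact group scheme over `k`.  `O(G) = k` iff every homomorphism
`G → GL_n` is trivial.  The interesting direction: the (right) regular representation on `O(G)` is
locally finite (via Künneth for `G × G`, `(G × G) × G`, `G × (G × G)`), so every `f ∈ O(G)` lies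
in a finite-dimensional right-stable subspace `U` with basis `b`; the coefficient matrix `M` of
the coaction on `b` is a homomorphism `G → GL_n`; if it is trivial, `b_j(xy) = b_j(x)`, hence
`b_j` is constant.
-/

set_option autoImplicit false
set_option linter.style.haveILetI false
universe u
open CategoryTheory MonoidalCategory CartesianMonoidalCategory MonObj GrpObj AlgebraicGeometry Limits
  TensorProduct

namespace Groth.Agent.H8.AntiAff

variable {k : Type u} [Field k]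
variable (G : Over (Spec (CommRingCat.of k))) [GrpObj G]

theorem pb_mul_eq {T : Over (Spec (CommRingCat.of k))} (x y : T ⟶ G) (a : Γ(G.left, ⊤))
    {ι' : Type*} (s : Finset ι') (p q : ι' → Γ(G.left, ⊤))
    (h : pb μ[G] a = ∑ i ∈ s, pb (fst G G) (p i) * pb (snd G G) (q i)) :
    pb (x * y) a = ∑ i ∈ s, pb x (p i) * pb y (q i) := by
  rw [Hom.mul_def, pb_comp, h, map_sum]
  refine Finset.sum_congr rfl fun i _ => ?_
  rw [map_mul, ← pb_comp, ← pb_comp, lift_fst, lift_snd]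

theorem pb_one_eq (a : Γ(G.left, ⊤)) :
    ∃ r : k, ∀ T : Over (Spec (CommRingCat.of k)),
      pb (1 : T ⟶ G) a = algebraMap k Γ(T.left, ⊤) r := by
  obtain ⟨r, hr⟩ := exists_eq_algebraMap_unit (pb η[G] a)
  refine ⟨r, fun T => ?_⟩
  rw [Hom.one_def, pb_comp, hr, AlgHom.commutes]

theorem glFn_one' {S : Scheme.{u}} {X : Over S} (n : ℕ) :
    Tors.glFn n (1 : X ⟶ FrB.GLn n S) = 1 := by
  have h := Tors.glFn_mul (1 : X ⟶ FrB.GLn n S) 1
  rw [_root_.mul_one] at h
  exact (Tors.isUnit_glFn (1 : X ⟶ FrB.GLn n S)).mul_left_cancel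
    (h.symm.trans (_root_.mul_one _).symm)

section claims

variable [QuasiCompact G.hom] [IsSeparated G.hom]

theorem claim1 {κ : Type*} (𝒷 : Module.Basis κ k Γ(G.left, ⊤))
    (f : Γ(G.left, ⊤)) (c : κ →₀ Γ(G.left, ⊤))
    (hc : pb μ[G] f = ∑ i ∈ c.support, pb (fst G G) (c i) * pb (snd G G) (𝒷 i))
    (d : κ → κ →₀ Γ(G.left, ⊤))
    (hd : ∀ i, pb μ[G] (𝒷 i) =
      ∑ j ∈ (d i).support, pb (fst G G) (d i j) * pb (snd G G) (𝒷 j))
    (j : κ) :
    pb μ[G] (c j) = ∑ i ∈ c.support, pb (fst G G) (c i) * pb (snd G G) (d i j) := by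
  classical
  haveI := qc_tensor G G
  haveI := sep_tensor G G
  obtain ⟨I, hI⟩ : ∃ I : Finset κ, I = c.support := ⟨_, rfl⟩
  rw [← hI] at hc ⊢
  obtain ⟨J, hJ⟩ : ∃ J : Finset κ, J = insert j (I ∪ I.biUnion fun i => (d i).support) :=
    ⟨_, rfl⟩
  have hjJ : j ∈ J := by rw [hJ]; exact Finset.mem_insert_self _ _
  have hIJ : I ⊆ J := fun i hi => by
    rw [hJ]; exact Finset.mem_insert_of_mem (Finset.mem_union_left _ hi)
  have hdJ : ∀ i ∈ I, (d i).support ⊆ J := fun i hi l hl => by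
    rw [hJ]
    exact Finset.mem_insert_of_mem
      (Finset.mem_union_right _ (Finset.mem_biUnion.mpr ⟨i, hi, hl⟩))
  have hcI : ∀ l, l ∉ I → c l = 0 := fun l hl => by
    rw [hI] at hl; exact Finsupp.notMem_support_iff.mp hl
  obtain ⟨x, hx⟩ : ∃ x : (G ⊗ G) ⊗ G ⟶ G, x = fst (G ⊗ G) G ≫ fst G G := ⟨_, rfl⟩
  obtain ⟨y, hy⟩ : ∃ y : (G ⊗ G) ⊗ G ⟶ G, y = fst (G ⊗ G) G ≫ snd G G := ⟨_, rfl⟩
  obtain ⟨z, hz⟩ : ∃ z : (G ⊗ G) ⊗ G ⟶ G, z = snd (G ⊗ G) G := ⟨_, rfl⟩
  have hxy : x * y = fst (G ⊗ G) G ≫ μ[G] := by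
    rw [hx, hy, ← MonObj.comp_mul, ← MonObj.mul_eq_mul]
  have e1 : pb ((x * y) * z) f =
      ∑ l ∈ J, pb (fst (G ⊗ G) G) (pb μ[G] (c l)) * pb (snd (G ⊗ G) G) (𝒷 l) := by
    have s1 : ∑ i ∈ I, pb (x * y) (c i) * pb z (𝒷 i) =
        ∑ i ∈ I, pb (fst (G ⊗ G) G) (pb μ[G] (c i)) * pb (snd (G ⊗ G) G) (𝒷 i) :=
      Finset.sum_congr rfl fun i _ => by rw [hxy, pb_comp, hz]
    have s2 : ∑ i ∈ I, pb (fst (G ⊗ G) G) (pb μ[G] (c i)) * pb (snd (G ⊗ G) G) (𝒷 i) =
        ∑ l ∈ J, pb (fst (G ⊗ G) G) (pb μ[G] (c l)) * pb (snd (G ⊗ G) G) (𝒷 l) :=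
      Finset.sum_subset hIJ fun l _ hl => by rw [hcI l hl, map_zero, map_zero, zero_mul]
    exact (pb_mul_eq G (x * y) z f I (fun i => c i) (fun i => 𝒷 i) hc).trans (s1.trans s2)
  have e2 : pb (x * (y * z)) f =
      ∑ l ∈ J, pb (fst (G ⊗ G) G) (∑ i ∈ I, pb (fst G G) (c i) * pb (snd G G) (d i l)) *
        pb (snd (G ⊗ G) G) (𝒷 l) := by
    have h1 : ∀ i ∈ I, pb (y * z) (𝒷 i) = ∑ l ∈ J, pb y (d i l) * pb z (𝒷 l) := by
      intro i hi
      refine (pb_mul_eq G y z (𝒷 i) (d i).support (fun l => d i l) (fun l => 𝒷 l)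
        (hd i)).trans ?_
      refine Finset.sum_subset (hdJ i hi) ?_
      intro l _ hl
      rw [Finsupp.notMem_support_iff.mp hl, map_zero, zero_mul]
    have h2 : ∑ i ∈ I, pb x (c i) * pb (y * z) (𝒷 i) =
        ∑ i ∈ I, pb x (c i) * ∑ l ∈ J, pb y (d i l) * pb z (𝒷 l) :=
      Finset.sum_congr rfl fun i hi => by rw [h1 i hi]
    refine (pb_mul_eq G x (y * z) f I (fun i => c i) (fun i => 𝒷 i) hc).trans (h2.trans ?_)
    simp_rw [Finset.mul_sum, map_sum, Finset.sum_mul]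
    rw [Finset.sum_comm]
    refine Finset.sum_congr rfl fun l _ => Finset.sum_congr rfl fun i _ => ?_
    rw [map_mul, ← pb_comp, ← pb_comp, ← hx, ← hy, ← hz, _root_.mul_assoc]
  have key : ∑ l ∈ J, pb (fst (G ⊗ G) G)
      (pb μ[G] (c l) - ∑ i ∈ I, pb (fst G G) (c i) * pb (snd G G) (d i l)) *
        pb (snd (G ⊗ G) G) (𝒷 l) = 0 := by
    simp_rw [map_sub, sub_mul, Finset.sum_sub_distrib]
    rw [← e1, ← e2, _root_.mul_assoc, sub_self]
  exact sub_eq_zero.mp (indep_right (G ⊗ G) G 𝒷 𝒷.linearIndependent J _ key j hjJ)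

theorem exists_rep (f : Γ(G.left, ⊤)) :
    ∃ (n : ℕ) (b : Fin n → Γ(G.left, ⊤)) (M : Matrix (Fin n) (Fin n) Γ(G.left, ⊤)),
      LinearIndependent k b ∧ f ∈ Submodule.span k (Set.range b) ∧
      ∀ m, pb μ[G] (b m) = ∑ l, pb (fst G G) (b l) * pb (snd G G) (M l m) := by
  classical
  obtain ⟨𝒷, -⟩ : ∃ 𝒷 : Module.Basis (Module.Free.ChooseBasisIndex k Γ(G.left, ⊤)) k
      Γ(G.left, ⊤), 𝒷 = Module.Free.chooseBasis k Γ(G.left, ⊤) := ⟨_, rfl⟩
  obtain ⟨c, hc⟩ := span_right G G 𝒷 (pb μ[G] f)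
  choose d hd using fun i => span_right G G 𝒷 (pb μ[G] (𝒷 i))
  have h1 := claim1 G 𝒷 f c hc d hd
  obtain ⟨U, hU⟩ : ∃ U : Submodule k Γ(G.left, ⊤),
      U = Submodule.span k (c '' (c.support : Set _)) := ⟨_, rfl⟩
  have hcU : ∀ i ∈ c.support, c i ∈ U := fun i hi => by
    rw [hU]; exact Submodule.subset_span ⟨i, Finset.mem_coe.mpr hi, rfl⟩
  haveI : Module.Finite k U := by
    rw [hU]; exact Module.Finite.span_of_finite k ((c.support.finite_toSet).image c)
  obtain ⟨n, hn⟩ : ∃ n : ℕ, n = Module.finrank k U := ⟨_, rfl⟩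
  obtain ⟨bU, -⟩ : ∃ bU : Module.Basis (Fin n) k U, bU = bU := ⟨hn ▸ Module.finBasis k U, rfl⟩
  -- functions of the form `∑ fst^* b_l * snd^* w_l`
  let W : Submodule k Γ((G ⊗ G).left, ⊤) :=
    { carrier := {F | ∃ w : Fin n → Γ(G.left, ⊤),
        F = ∑ l, pb (fst G G) (bU l : Γ(G.left, ⊤)) * pb (snd G G) (w l)}
      zero_mem' := ⟨0, by simp⟩
      add_mem' := by
        rintro _ _ ⟨w₁, rfl⟩ ⟨w₂, rfl⟩
        exact ⟨w₁ + w₂, by simp [mul_add, Finset.sum_add_distrib]⟩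
      smul_mem' := by
        rintro r _ ⟨w, rfl⟩
        exact ⟨r • w, by simp [Finset.smul_sum, mul_smul_comm]⟩ }
  have hbW : ∀ u ∈ U, ∀ a, pb (fst G G) u * pb (snd G G) a ∈ W := by
    intro u hu a
    refine ⟨fun l => (bU.repr ⟨u, hu⟩ l) • a, ?_⟩
    have hu' : u = ∑ l, (bU.repr ⟨u, hu⟩ l) • (bU l : Γ(G.left, ⊤)) := by
      have h2 := congrArg U.subtype (bU.sum_repr ⟨u, hu⟩)
      rw [map_sum] at h2
      simp only [map_smul, Submodule.subtype_apply] at h2
      exact h2.symm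
    conv_lhs => rw [hu']
    rw [map_sum, Finset.sum_mul]
    refine Finset.sum_congr rfl fun l _ => ?_
    rw [map_smul, map_smul, smul_mul_assoc, mul_smul_comm]
  have hcW : ∀ j, pb μ[G] (c j) ∈ W := by
    intro j
    rw [h1 j]
    exact W.sum_mem fun i hi => hbW (c i) (hcU i hi) _
  have hUW : U ≤ W.comap (pb μ[G]).toLinearMap := by
    rw [hU]
    apply Submodule.span_le.mpr
    rintro _ ⟨j, _, rfl⟩
    exact hcW j
  have hex : ∀ m, ∃ w : Fin n → Γ(G.left, ⊤), pb μ[G] (bU m : Γ(G.left, ⊤)) =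
      ∑ l, pb (fst G G) (bU l : Γ(G.left, ⊤)) * pb (snd G G) (w l) :=
    fun m => hUW (bU m).2
  choose w hw using hex
  have hspan : Submodule.span k (Set.range fun m => (bU m : Γ(G.left, ⊤))) = U := by
    have h3 : (Set.range fun m => (bU m : Γ(G.left, ⊤))) = U.subtype '' Set.range bU := by
      rw [← Set.range_comp]; rfl
    rw [h3, ← Submodule.map_span, bU.span_eq, Submodule.map_top, Submodule.range_subtype]
  have hfU : f ∈ U := by
    have h2 := pb_mul_eq G (𝟙 G) (1 : G ⟶ G) f c.support (fun i => c i) (fun i => 𝒷 i) hc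
    rw [_root_.mul_one, pb_id] at h2
    rw [h2]
    refine U.sum_mem fun i hi => ?_
    obtain ⟨r, hr⟩ := pb_one_eq G (𝒷 i)
    rw [hr G, pb_id, mul_comm, ← Algebra.smul_def]
    exact U.smul_mem r (hcU i hi)
  refine ⟨n, fun m => (bU m : Γ(G.left, ⊤)), Matrix.of fun l m => w m l, ?_, ?_, fun m => hw m⟩
  · exact bU.linearIndependent.map' U.subtype (Submodule.ker_subtype U)
  · rw [hspan]; exact hfU

theorem mat_mul {n : ℕ} (b : Fin n → Γ(G.left, ⊤)) (hb : LinearIndependent k b)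
    (M : Matrix (Fin n) (Fin n) Γ(G.left, ⊤))
    (hM : ∀ m, pb μ[G] (b m) = ∑ l, pb (fst G G) (b l) * pb (snd G G) (M l m))
    (r m : Fin n) :
    pb μ[G] (M r m) = ∑ l, pb (fst G G) (M r l) * pb (snd G G) (M l m) := by
  haveI := qc_tensor G G
  haveI := sep_tensor G G
  obtain ⟨x, hx⟩ : ∃ x : G ⊗ (G ⊗ G) ⟶ G, x = fst G (G ⊗ G) := ⟨_, rfl⟩
  obtain ⟨y, hy⟩ : ∃ y : G ⊗ (G ⊗ G) ⟶ G, y = snd G (G ⊗ G) ≫ fst G G := ⟨_, rfl⟩
  obtain ⟨z, hz⟩ : ∃ z : G ⊗ (G ⊗ G) ⟶ G, z = snd G (G ⊗ G) ≫ snd G G := ⟨_, rfl⟩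
  have hyz : y * z = snd G (G ⊗ G) ≫ μ[G] := by
    rw [hy, hz, ← MonObj.comp_mul, ← MonObj.mul_eq_mul]
  have e1 : pb (x * (y * z)) (b m) =
      ∑ r', pb (fst G (G ⊗ G)) (b r') * pb (snd G (G ⊗ G)) (pb μ[G] (M r' m)) := by
    refine (pb_mul_eq G x (y * z) (b m) Finset.univ b (fun l => M l m) (hM m)).trans ?_
    refine Finset.sum_congr rfl fun l _ => ?_
    rw [hyz, pb_comp, hx]
  have e2 : pb ((x * y) * z) (b m) =
      ∑ r', pb (fst G (G ⊗ G)) (b r') *
        pb (snd G (G ⊗ G)) (∑ l, pb (fst G G) (M r' l) * pb (snd G G) (M l m)) := by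
    have h1 : ∀ l, pb (x * y) (b l) = ∑ r', pb x (b r') * pb y (M r' l) := fun l =>
      pb_mul_eq G x y (b l) Finset.univ b (fun r' => M r' l) (hM l)
    have h2 : ∑ l, pb (x * y) (b l) * pb z (M l m) =
        ∑ l, (∑ r', pb x (b r') * pb y (M r' l)) * pb z (M l m) :=
      Finset.sum_congr rfl fun l _ => by rw [h1 l]
    refine (pb_mul_eq G (x * y) z (b m) Finset.univ b (fun l => M l m) (hM m)).trans
      (h2.trans ?_)
    simp_rw [Finset.sum_mul, map_sum, Finset.mul_sum]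
    rw [Finset.sum_comm]
    refine Finset.sum_congr rfl fun r' _ => Finset.sum_congr rfl fun l _ => ?_
    rw [map_mul, ← pb_comp, ← pb_comp, ← hx, ← hy, ← hz, _root_.mul_assoc]
  have key : ∑ r', pb (fst G (G ⊗ G)) (b r') * pb (snd G (G ⊗ G))
      (pb μ[G] (M r' m) - ∑ l, pb (fst G G) (M r' l) * pb (snd G G) (M l m)) = 0 := by
    simp_rw [map_sub, mul_sub, Finset.sum_sub_distrib]
    rw [← e1, ← e2, _root_.mul_assoc, sub_self]
  exact sub_eq_zero.mp (indep_left G (G ⊗ G) b hb Finset.univ _ key r (Finset.mem_univ _))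

end claims

theorem mat_one {n : ℕ} (b : Fin n → Γ(G.left, ⊤)) (hb : LinearIndependent k b)
    (M : Matrix (Fin n) (Fin n) Γ(G.left, ⊤))
    (hM : ∀ m, pb μ[G] (b m) = ∑ l, pb (fst G G) (b l) * pb (snd G G) (M l m))
    (T : Over (Spec (CommRingCat.of k))) : M.map (pb (1 : T ⟶ G)) = 1 := by
  classical
  choose ε hε using fun l m => pb_one_eq G (M l m)
  have h1 : ∀ m, b m = ∑ l, ε l m • b l := by
    intro m
    have h2 := pb_mul_eq G (𝟙 G) (1 : G ⟶ G) (b m) Finset.univ b (fun l => M l m) (hM m)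
    rw [_root_.mul_one, pb_id] at h2
    refine h2.trans (Finset.sum_congr rfl fun l _ => ?_)
    rw [hε l m G, pb_id, mul_comm, ← Algebra.smul_def]
  have h3 : ∀ l m, ε l m = if l = m then 1 else 0 := by
    intro l m
    have h4 : ∑ l, (ε l m - if l = m then 1 else 0) • b l = 0 := by
      simp_rw [sub_smul, Finset.sum_sub_distrib, ← h1 m]
      simp [ite_smul]
    exact sub_eq_zero.mp (Fintype.linearIndependent_iff.mp hb _ h4 l)
  ext l m
  rw [Matrix.map_apply, hε l m T, h3 l m, Matrix.one_apply]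
  split_ifs <;> simp

theorem mat_points {n : ℕ} (M : Matrix (Fin n) (Fin n) Γ(G.left, ⊤))
    (hMM : ∀ r m, pb μ[G] (M r m) = ∑ l, pb (fst G G) (M r l) * pb (snd G G) (M l m))
    {T : Over (Spec (CommRingCat.of k))} (x y : T ⟶ G) :
    M.map (pb (x * y)) = M.map (pb x) * M.map (pb y) := by
  ext r m
  rw [Matrix.map_apply, Matrix.mul_apply,
    pb_mul_eq G x y (M r m) Finset.univ (fun l => M r l) (fun l => M l m) (hMM r m)]
  rfl

theorem main (k : Type u) [Field k] (G : Over (Spec (CommRingCat.of k))) [GrpObj G]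
    [QuasiCompact G.hom] :
    Function.Bijective ((Scheme.ΓSpecIso (CommRingCat.of k)).inv ≫ G.hom.appTop).hom ↔
      ∀ (n : ℕ) (ρ : G ⟶ FrB.GLn n (Spec (CommRingCat.of k))), IsMonHom ρ → ρ = 1 := by
  haveI : IsSeparated G.hom := Groth.Agent.H9.GZB.isSeparated_hom G
  show Function.Bijective (str G) ↔ _
  constructor
  · intro hbij n ρ hρ
    haveI := hρ
    apply Tors.glFn_injective
    rw [glFn_one']
    obtain ⟨M, hMdef⟩ : ∃ M, M = Tors.glFn n ρ := ⟨_, rfl⟩
    rw [← hMdef]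
    have hsc : ∀ (x : G ⟶ G), M.map (pb x) = M := by
      intro x
      ext i j
      obtain ⟨r, hr⟩ := hbij.2 (M i j)
      rw [Matrix.map_apply, ← hr]
      exact str_comp x r
    have h1 : Tors.glFn n ((𝟙 G * 𝟙 G) ≫ ρ) = M := by
      rw [Tors.glFn_comp, ← hMdef]; exact hsc _
    have h2 : (𝟙 G * 𝟙 G) ≫ ρ = ρ * ρ := by
      rw [MonObj.mul_comp _ _ ρ, Category.id_comp]
    rw [h2, Tors.glFn_mul, ← hMdef] at h1
    have hu : IsUnit M := by rw [hMdef]; exact Tors.isUnit_glFn ρ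
    exact hu.mul_left_cancel (h1.trans (_root_.mul_one M).symm)
  · intro H
    constructor
    · haveI : Nontrivial Γ(G.left, ⊤) := by
        refine ⟨⟨0, 1, fun h01 => ?_⟩⟩
        have h := congrArg (pb η[G]) h01
        rw [map_zero, map_one] at h
        have h' := congrArg (Scheme.ΓSpecIso (CommRingCat.of k)).hom.hom h
        rw [map_zero, map_one] at h'
        exact zero_ne_one h'
      exact (str G).injective
    · intro f
      obtain ⟨n, b, M, hb, hf, hM⟩ := exists_rep G f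
      have hMM := mat_mul G b hb M hM
      have hone := mat_one G b hb M hM
      have hunit : IsUnit M := by
        have h1 := mat_points G M hMM (𝟙 G) ι[G]
        have h2 : 𝟙 G * ι[G] = 1 := by rw [GrpObj.inv_eq_inv, mul_inv_cancel]
        rw [h2, hone G] at h1
        have h3 : M.map (pb (𝟙 G)) = M := by ext i j; rfl
        rw [h3] at h1
        exact (Matrix.isUnit_iff_isUnit_det M).mpr (Matrix.isUnit_det_of_right_inverse h1.symm)
      obtain ⟨ρ, hρ⟩ := Tors.exists_glFn_eq M hunit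
      have hmon : IsMonHom ρ := by
        constructor
        · apply Tors.glFn_injective
          have h1 : (η[G] : 𝟙_ (Over (Spec (CommRingCat.of k))) ⟶ G) = 1 := MonObj.one_eq_one _
          have h1' : (η[FrB.GLn n (Spec (CommRingCat.of k))] :
              𝟙_ (Over (Spec (CommRingCat.of k))) ⟶ _) = 1 := MonObj.one_eq_one _
          rw [h1', glFn_one', Tors.glFn_comp, hρ, h1]
          exact hone _
        · apply Tors.glFn_injective
          have h2 : (ρ ⊗ₘ ρ) ≫ μ[FrB.GLn n (Spec (CommRingCat.of k))] =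
              (fst _ _ ≫ ρ) * (snd _ _ ≫ ρ) := by
            rw [MonObj.mul_eq_mul (FrB.GLn n (Spec (CommRingCat.of k))), MonObj.comp_mul,
              tensorHom_fst, tensorHom_snd]
          have h3 : (μ[G] : G ⊗ G ⟶ G) = fst G G * snd G G := MonObj.mul_eq_mul _
          rw [h2, Tors.glFn_mul, Tors.glFn_comp, Tors.glFn_comp, Tors.glFn_comp, hρ, h3]
          exact mat_points G M hMM (fst G G) (snd G G)
      have hρ1 := H n ρ hmon
      have hM1 : M = 1 := by rw [← hρ, hρ1, glFn_one']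
      have hbm : ∀ m, b m ∈ (⊥ : Subalgebra k Γ(G.left, ⊤)) := by
        intro m
        have h2 := pb_mul_eq G (1 : G ⟶ G) (𝟙 G) (b m) Finset.univ b (fun l => M l m) (hM m)
        rw [_root_.one_mul, pb_id] at h2
        rw [h2]
        refine Subalgebra.sum_mem _ fun l _ => ?_
        obtain ⟨r, hr⟩ := pb_one_eq G (b l)
        rw [hr G, pb_id]
        exact Subalgebra.mul_mem _ (Subalgebra.algebraMap_mem _ r) (by
          rw [hM1, Matrix.one_apply]
          split_ifs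
          · exact Subalgebra.one_mem _
          · exact Subalgebra.zero_mem _)
      have hfb : f ∈ Subalgebra.toSubmodule (⊥ : Subalgebra k Γ(G.left, ⊤)) := by
        refine (Submodule.span_le.mpr ?_) hf
        rintro _ ⟨m, rfl⟩
        exact hbm m
      obtain ⟨r, hr⟩ := Algebra.mem_bot.mp hfb
      exact ⟨r, hr⟩

end Groth.Agent.H8.AntiAff
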