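import Groth.Agent.Lib.Helper8.AntiAff.Main
import Groth.Prelude.Def_VecGrp

/-!
# Natural functions on the affine points of an anti-affine scheme are constant (helper8)

`k` a field, `G` a `k`-scheme.  A `NatFn G` is a family of elements `c B g ∈ B`, one for every
`k`-algebra `B` and every point `g : Spec B ⟶ G` over `k`, natural in `B`.  Such a family glues to a
morphism `F : G ⟶ 𝔸¹ = Spec k[X]` (`exists_glue`), hence to a global function; if `k → O(G)` is
surjective, the family is constant (`NatFn.const`).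
-/

set_option autoImplicit false
set_option linter.style.haveILetI false
universe u
open CategoryTheory MonoidalCategory CartesianMonoidalCategory MonObj GrpObj AlgebraicGeometry Limits
  TensorProduct

namespace Groth.Agent.H8.AntiAff

variable {k : Type u} [Field k]
variable (G : Over (Spec (CommRingCat.of k)))

/-- a natural family of functions on the affine points of `G` -/
structure NatFn where
  /-- the value at a point -/
  c : ∀ (B : Type u) [CommRing B] [Algebra k B], (VecGrp.pt k B ⟶ G) → B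
  /-- naturality -/
  nat : ∀ {B B' : Type u} [CommRing B] [Algebra k B] [CommRing B'] [Algebra k B']
    (φ : B →ₐ[k] B') (g : VecGrp.pt k B ⟶ G), φ (c B g) = c B' (VecGrp.ptMap φ ≫ g)

variable {G}

theorem NatFn.congr (c : NatFn G) {B : Type u} [CommRing B] (a₁ a₂ : Algebra k B) (h : a₁ = a₂)
    (g₁ : @VecGrp.pt k _ B _ a₁ ⟶ G) (g₂ : @VecGrp.pt k _ B _ a₂ ⟶ G) (hl : g₁.left = g₂.left) :
    @NatFn.c _ _ _ c B _ a₁ g₁ = @NatFn.c _ _ _ c B _ a₂ g₂ := by
  subst h
  have : g₁ = g₂ := Over.OverMorphism.ext hl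
  rw [this]

variable (G)

/-- the `k`-algebra structure on `R` induced by `j : Spec R ⟶ G`. -/
@[reducible] noncomputable def algOf {R : CommRingCat.{u}} (j : Spec R ⟶ G.left) : Algebra k R :=
  RingHom.toAlgebra (Spec.preimage (j ≫ G.hom)).hom

theorem spec_algebraMap {R : CommRingCat.{u}} (j : Spec R ⟶ G.left) :
    Spec.map (CommRingCat.ofHom (@algebraMap k R _ _ (algOf G j))) = j ≫ G.hom := by
  show Spec.map (CommRingCat.ofHom (Spec.preimage (j ≫ G.hom)).hom) = _
  rw [CommRingCat.ofHom_hom, Spec.map_preimage]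

/-- `j : Spec R ⟶ G` as a point over `k`. -/
noncomputable def ptOf {R : CommRingCat.{u}} (j : Spec R ⟶ G.left) :
    @VecGrp.pt k _ R _ (algOf G j) ⟶ G :=
  Over.homMk j (spec_algebraMap G j).symm

variable {G}

/-- the value of a natural function at `j : Spec R ⟶ G`. -/
noncomputable def cOf (c : NatFn G) {R : CommRingCat.{u}} (j : Spec R ⟶ G.left) : R :=
  @NatFn.c _ _ _ c R _ (algOf G j) (ptOf G j)

theorem preimage_comm {R R' : CommRingCat.{u}} (ψ : R ⟶ R') (j : Spec R ⟶ G.left) (r : k) :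
    (Spec.preimage ((Spec.map ψ ≫ j) ≫ G.hom)).hom r =
      ψ.hom ((Spec.preimage (j ≫ G.hom)).hom r) := by
  have h : Spec.preimage (j ≫ G.hom) ≫ ψ = Spec.preimage ((Spec.map ψ ≫ j) ≫ G.hom) := by
    apply Spec.map_injective
    rw [Spec.map_comp, Spec.map_preimage, Spec.map_preimage, Category.assoc]
  exact (congrArg (fun f => f.hom r) h).symm

theorem cOf_map (c : NatFn G) {R R' : CommRingCat.{u}} (ψ : R ⟶ R') (j : Spec R ⟶ G.left) :
    cOf c (Spec.map ψ ≫ j) = ψ.hom (cOf c j) := by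
  letI i1 : Algebra k R := algOf G j
  letI i2 : Algebra k R' := algOf G (Spec.map ψ ≫ j)
  let φ : R →ₐ[k] R' := { ψ.hom with commutes' := fun r => (preimage_comm ψ j r).symm }
  have hpt : VecGrp.ptMap φ ≫ ptOf G j = ptOf G (Spec.map ψ ≫ j) := by
    apply Over.OverMorphism.ext
    rfl
  have h := c.nat φ (ptOf G j)
  rw [hpt] at h
  exact h.symm

/-- the affine line -/
noncomputable abbrev A1 (k : Type u) [Field k] : Scheme.{u} := Spec (CommRingCat.of (Polynomial k))

/-- the morphism to the affine line given by the value at `j`. -/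
noncomputable def mOf (c : NatFn G) {R : CommRingCat.{u}} (j : Spec R ⟶ G.left) :
    Spec R ⟶ A1 k :=
  Spec.map (CommRingCat.ofHom
    (Polynomial.eval₂RingHom (Spec.preimage (j ≫ G.hom)).hom (cOf c j)))

theorem mOf_map (c : NatFn G) {R R' : CommRingCat.{u}} (ψ : R ⟶ R') (j : Spec R ⟶ G.left) :
    mOf c (Spec.map ψ ≫ j) = Spec.map ψ ≫ mOf c j := by
  unfold mOf
  rw [← Spec.map_comp]
  congr 1
  ext : 1
  apply Polynomial.ringHom_ext
  · intro a
    simp only [CommRingCat.hom_comp, CommRingCat.hom_ofHom, RingHom.comp_apply,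
      Polynomial.coe_eval₂RingHom, Polynomial.eval₂_C]
    exact preimage_comm ψ j a
  · simp only [CommRingCat.hom_comp, CommRingCat.hom_ofHom, RingHom.comp_apply,
      Polynomial.coe_eval₂RingHom, Polynomial.eval₂_X]
    exact cOf_map c ψ j

theorem mOf_comp (c : NatFn G) {R R' : CommRingCat.{u}} (a : Spec R' ⟶ Spec R)
    (j : Spec R ⟶ G.left) : mOf c (a ≫ j) = a ≫ mOf c j := by
  obtain ⟨ψ, rfl⟩ : ∃ ψ, Spec.map ψ = a := ⟨Spec.preimage a, Spec.map_preimage a⟩
  exact mOf_map c ψ j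

theorem exists_glue (c : NatFn G) :
    ∃ F : G.left ⟶ A1 k, ∀ {R : CommRingCat.{u}} (j : Spec R ⟶ G.left), mOf c j = j ≫ F := by
  obtain ⟨𝒰, -⟩ : ∃ 𝒰 : G.left.AffineOpenCover, 𝒰 = G.left.affineOpenCover := ⟨_, rfl⟩
  have compat : ∀ x y : 𝒰.I₀, pullback.fst (𝒰.f x) (𝒰.f y) ≫ mOf c (𝒰.f x) =
      pullback.snd (𝒰.f x) (𝒰.f y) ≫ mOf c (𝒰.f y) := by
    intro x y
    refine Scheme.Cover.hom_ext (pullback (𝒰.f x) (𝒰.f y)).affineOpenCover.openCover _ _
      fun w => ?_
    show (pullback (𝒰.f x) (𝒰.f y)).affineOpenCover.f w ≫ _ =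
      (pullback (𝒰.f x) (𝒰.f y)).affineOpenCover.f w ≫ _
    rw [← Category.assoc, ← Category.assoc, ← mOf_comp, ← mOf_comp, Category.assoc,
      Category.assoc, pullback.condition]
  refine ⟨𝒰.openCover.glueMorphisms (fun i => mOf c (𝒰.f i)) compat, ?_⟩
  intro R j
  refine Scheme.Cover.hom_ext (𝒰.openCover.pullback₁ j) _ _ fun i => ?_
  show pullback.fst j (𝒰.f i) ≫ _ = pullback.fst j (𝒰.f i) ≫ _
  refine Scheme.Cover.hom_ext (pullback j (𝒰.f i)).affineOpenCover.openCover _ _ fun w => ?_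
  show (pullback j (𝒰.f i)).affineOpenCover.f w ≫ _ =
    (pullback j (𝒰.f i)).affineOpenCover.f w ≫ _
  obtain ⟨q, hq⟩ : ∃ q, q = (pullback j (𝒰.f i)).affineOpenCover.f w := ⟨_, rfl⟩
  rw [← hq]
  have h1 : q ≫ pullback.fst j (𝒰.f i) ≫ mOf c j =
      mOf c ((q ≫ pullback.snd j (𝒰.f i)) ≫ 𝒰.f i) := by
    rw [← Category.assoc, ← mOf_comp, Category.assoc, Category.assoc, pullback.condition]
  have h2 : q ≫ pullback.fst j (𝒰.f i) ≫ j ≫
      𝒰.openCover.glueMorphisms (fun i => mOf c (𝒰.f i)) compat =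
      (q ≫ pullback.snd j (𝒰.f i)) ≫ mOf c (𝒰.f i) := by
    have h3 := Scheme.Cover.ι_glueMorphisms 𝒰.openCover (fun i => mOf c (𝒰.f i)) compat i
    rw [pullback.condition_assoc, Category.assoc]
    congr 2
  rw [h1, h2, mOf_comp]

theorem NatFn.const (hG : Function.Surjective (str G)) (c : NatFn G) :
    ∃ r : k, ∀ (B : Type u) [CommRing B] [Algebra k B] (g : VecGrp.pt k B ⟶ G),
      c.c B g = algebraMap k B r := by
  obtain ⟨F, hF⟩ := exists_glue c
  obtain ⟨ξ, hξ⟩ : ∃ ξ : Γ(A1 k, ⊤),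
      ξ = (Scheme.ΓSpecIso (CommRingCat.of (Polynomial k))).inv.hom Polynomial.X := ⟨_, rfl⟩
  obtain ⟨r, hr⟩ := hG (F.appTop.hom ξ)
  refine ⟨r, fun B _ _ g => ?_⟩
  have hal : algOf G (R := CommRingCat.of B) g.left = ‹Algebra k B› := by
    apply Algebra.algebra_ext
    intro a
    show (Spec.preimage (g.left ≫ G.hom)).hom a = algebraMap k B a
    have : g.left ≫ G.hom = Spec.map (CommRingCat.ofHom (algebraMap k B)) := Over.w g
    rw [this, Spec.preimage_map]
    rfl
  have hc : cOf c (R := CommRingCat.of B) g.left = c.c B g :=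
    c.congr _ _ hal _ _ rfl
  have h1 := hF (R := CommRingCat.of B) g.left
  have h2 := congrArg (fun f => f.appTop.hom ξ) h1
  have hL : (mOf c (R := CommRingCat.of B) g.left).appTop.hom ξ =
      (Scheme.ΓSpecIso (CommRingCat.of B)).inv.hom (cOf c (R := CommRingCat.of B) g.left) := by
    unfold mOf
    have := congrArg (fun f => f.hom Polynomial.X) (Scheme.ΓSpecIso_inv_naturality
      (CommRingCat.ofHom (Polynomial.eval₂RingHom (Spec.preimage (g.left ≫ G.hom)).hom
        (cOf c (R := CommRingCat.of B) g.left))))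
    simp only [CommRingCat.hom_comp, RingHom.comp_apply, CommRingCat.hom_ofHom,
      Polynomial.coe_eval₂RingHom, Polynomial.eval₂_X] at this
    rw [hξ]
    exact this.symm
  have hR : (g.left ≫ F).appTop.hom ξ =
      (Scheme.ΓSpecIso (CommRingCat.of B)).inv.hom (algebraMap k B r) := by
    rw [Scheme.Hom.comp_appTop]
    show g.left.appTop.hom (F.appTop.hom ξ) = _
    rw [← hr, str_comp g r]
    have := congrArg (fun f => f.hom r) (Scheme.ΓSpecIso_inv_naturality
      (CommRingCat.ofHom (algebraMap k B)))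
    exact this.symm
  have h3 : (Scheme.ΓSpecIso (CommRingCat.of B)).inv.hom (cOf c (R := CommRingCat.of B) g.left) =
      (Scheme.ΓSpecIso (CommRingCat.of B)).inv.hom (algebraMap k B r) :=
    hL.symm.trans (h2.trans hR)
  rw [← hc]
  exact (ConcreteCategory.bijective_of_isIso (Scheme.ΓSpecIso (CommRingCat.of B)).inv).injective h3

end Groth.Agent.H8.AntiAff
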